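import Mathlib.Algebra.Category.ModuleCat.Abelian
import Mathlib.Algebra.Category.ModuleCat.Algebra
import Mathlib.Algebra.Homology.ShortComplex.ExactFunctor
import Mathlib.Algebra.Homology.ShortComplex.ModuleCat
import Mathlib.Algebra.Category.FGModuleCat.Abelian
import Mathlib.CategoryTheory.Abelian.Exact
import Mathlib.CategoryTheory.Functor.OfSequence
import Mathlib.CategoryTheory.Linear.LinearFunctor
import Mathlib.RingTheory.AdicCompletion.Basic
import Mathlib.RingTheory.Filtration

/-!
The adically completed extension of an exact functor on modules is exact on finite modules over a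
Noetherian ring (Artin-Rees).
-/

set_option autoImplicit false

universe w v u t

open CategoryTheory CategoryTheory.Limits Opposite

namespace Groth.Agent.DerTele91

set_option linter.unusedSectionVars false

variable {R : Type w} [CommRing R] (I : Ideal R)

/-- The tower `M / I ^ n M`. -/
noncomputable def adicTower : ModuleCat.{w} R ⥤ ℕᵒᵖ ⥤ ModuleCat.{w} R where
  obj M :=
    { obj := fun n => ModuleCat.of R (M ⧸ (I ^ n.unop • ⊤ : Submodule R M))
      map := fun h => ModuleCat.ofHom (Submodule.factorPow I M (leOfHom h.unop))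
      map_id := fun n => ModuleCat.hom_ext (Submodule.linearMap_qext _ (LinearMap.ext fun x => by
        simp [Submodule.factorPow]))
      map_comp := fun f g => ModuleCat.hom_ext (Submodule.linearMap_qext _ (LinearMap.ext fun x => by
        simp [Submodule.factorPow])) }
  map {M N} f :=
    { app := fun n => ModuleCat.ofHom (Submodule.mapQ _ _ f.hom (by
        rw [← Submodule.map_le_iff_le_comap, Submodule.map_smul'']
        exact Submodule.smul_mono le_rfl le_top))
      naturality := fun {n m} h => ModuleCat.hom_ext (Submodule.linearMap_qext _ (LinearMap.ext fun x => by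
        simp [Submodule.factorPow])) }
  map_id M := NatTrans.ext (funext fun n =>
    ModuleCat.hom_ext (Submodule.linearMap_qext _ (LinearMap.ext fun x => by simp)))
  map_comp f g := NatTrans.ext (funext fun n =>
    ModuleCat.hom_ext (Submodule.linearMap_qext _ (LinearMap.ext fun x => by simp)))

/-- The projection to `M / I ^ n M`. -/
noncomputable def qAdic (M : ModuleCat.{w} R) (n : ℕ) : M ⟶ ((adicTower I).obj M).obj (op n) :=
  ModuleCat.ofHom (Submodule.mkQ _)

/-- The transition maps. -/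
noncomputable abbrev trAdic (M : ModuleCat.{w} R) {n m : ℕ} (h : n ≤ m) :
    ((adicTower I).obj M).obj (op m) ⟶ ((adicTower I).obj M).obj (op n) :=
  ((adicTower I).obj M).map (homOfLE h).op

lemma qAdic_tr (M : ModuleCat.{w} R) {n m : ℕ} (h : n ≤ m) :
    qAdic I M m ≫ trAdic I M h = qAdic I M n :=
  ModuleCat.hom_ext (LinearMap.ext fun x => by simp [qAdic, trAdic, adicTower, Submodule.factorPow])

lemma qAdic_map {M N : ModuleCat.{w} R} (f : M ⟶ N) (n : ℕ) :
    qAdic I M n ≫ ((adicTower I).map f).app (op n) = f ≫ qAdic I N n :=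
  ModuleCat.hom_ext (LinearMap.ext fun x => by simp only [qAdic, adicTower, ModuleCat.hom_comp, ModuleCat.hom_ofHom]; rfl)

variable {C : Type u} [Category.{v} C] [Abelian C] [HasLimitsOfShape ℕᵒᵖ C]
  (E : ModuleCat.{w} R ⥤ C)

/-- `M ↦ lim E(M / I ^ n M)`. -/
noncomputable def adicΦ : ModuleCat.{w} R ⥤ C :=
  adicTower I ⋙ (Functor.whiskeringRight _ _ _).obj E ⋙ lim

/-- The projections. -/
noncomputable abbrev πAdic (M : ModuleCat.{w} R) (n : ℕ) :
    (adicΦ I E).obj M ⟶ E.obj (((adicTower I).obj M).obj (op n)) :=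
  limit.π ((adicTower I).obj M ⋙ E) (op n)

lemma πAdic_tr (M : ModuleCat.{w} R) {n m : ℕ} (h : n ≤ m) :
    πAdic I E M m ≫ E.map (trAdic I M h) = πAdic I E M n :=
  limit.w ((adicTower I).obj M ⋙ E) (homOfLE h).op

lemma map_πAdic {M N : ModuleCat.{w} R} (f : M ⟶ N) (n : ℕ) :
    (adicΦ I E).map f ≫ πAdic I E N n = πAdic I E M n ≫ E.map (((adicTower I).map f).app (op n)) :=
  limMap_π (Functor.whiskerRight ((adicTower I).map f) E) (op n)

lemma adicΦ_hom_ext {Z : C} {M : ModuleCat.{w} R} {a b : Z ⟶ (adicΦ I E).obj M}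
    (h : ∀ n, a ≫ πAdic I E M n = b ≫ πAdic I E M n) : a = b :=
  limit.hom_ext fun j => h j.unop

/-- Lifting a compatible sequence. -/
lemma exists_lift_adicΦ {Z : C} {M : ModuleCat.{w} R}
    (x : ∀ n, Z ⟶ E.obj (((adicTower I).obj M).obj (op n)))
    (hx : ∀ n, x (n + 1) ≫ E.map (trAdic I M (Nat.le_add_right n 1)) = x n) :
    ∃ a : Z ⟶ (adicΦ I E).obj M, ∀ n, a ≫ πAdic I E M n = x n := by
  let π : (Functor.const ℕᵒᵖ).obj Z ⟶ (adicTower I).obj M ⋙ E :=
    NatTrans.ofOpSequence (F := (Functor.const ℕᵒᵖ).obj Z) x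
      (fun n => (Category.id_comp (x n)).trans (hx n).symm)
  exact ⟨limit.lift _ ⟨Z, π⟩, fun n => limit.lift_π ⟨Z, π⟩ (op n)⟩

/-- The components of the natural map `E M ⟶ lim E(M / I ^ n M)`. -/
noncomputable def adicηApp (M : ModuleCat.{w} R) : E.obj M ⟶ (adicΦ I E).obj M :=
  limit.lift ((adicTower I).obj M ⋙ E)
    ⟨E.obj M, { app := fun n => E.map (qAdic I M n.unop)
                naturality := fun {n m} h => by
                  obtain ⟨n⟩ := n
                  obtain ⟨m⟩ := m
                  refine (Category.id_comp _).trans (Eq.trans ?_ (E.map_comp (qAdic I M n) (trAdic I M (leOfHom h.unop))))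
                  rw [qAdic_tr] }⟩

lemma adicηApp_π (M : ModuleCat.{w} R) (n : ℕ) :
    adicηApp I E M ≫ πAdic I E M n = E.map (qAdic I M n) :=
  limit.lift_π _ (op n)

/-- The natural map `E M ⟶ lim E(M / I ^ n M)`. -/
noncomputable def adicη : E ⟶ adicΦ I E where
  app M := adicηApp I E M
  naturality {M N} f := adicΦ_hom_ext I E fun n => by
    rw [Category.assoc, Category.assoc, adicηApp_π, map_πAdic, reassoc_of% (adicηApp_π I E M n),
      ← E.map_comp, ← E.map_comp, qAdic_map]

lemma adicη_π (M : ModuleCat.{w} R) (n : ℕ) :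
    (adicη I E).app M ≫ πAdic I E M n = E.map (qAdic I M n) :=
  adicηApp_π I E M n

/-- `η` is an isomorphism on modules killed by a power of `I`. -/
lemma isIso_adicη {M : ModuleCat.{w} R} {N : ℕ} (h : (I ^ N • ⊤ : Submodule R M) = ⊥) :
    IsIso ((adicη I E).app M) := by
  have hbot : ∀ n, N ≤ n → (I ^ n • ⊤ : Submodule R M) = ⊥ := fun n hn =>
    le_bot_iff.1 (h ▸ Submodule.smul_mono (Ideal.pow_le_pow_right hn) le_rfl)
  have hq : ∀ n, N ≤ n → IsIso (qAdic I M n) := fun n hn => by
    rw [ConcreteCategory.isIso_iff_bijective]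
    refine ⟨fun a b hab => ?_, Submodule.mkQ_surjective _⟩
    have e : a - b ∈ (I ^ n • ⊤ : Submodule R M) := (Submodule.Quotient.eq _).1 hab
    rwa [hbot n hn, Submodule.mem_bot, sub_eq_zero] at e
  have := hq N le_rfl
  refine ⟨πAdic I E M N ≫ inv (E.map (qAdic I M N)), ?_, adicΦ_hom_ext I E fun n => ?_⟩
  · rw [← Category.assoc, adicη_π, IsIso.hom_inv_id]
  · rw [Category.assoc, Category.assoc, adicη_π, Category.id_comp]
    obtain hn | hn := le_total n N
    · rw [← qAdic_tr I M hn, E.map_comp, IsIso.inv_hom_id_assoc, πAdic_tr]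
    · have := hq n hn
      have e : πAdic I E M N = πAdic I E M n ≫ E.map (trAdic I M hn) := (πAdic_tr I E M hn).symm
      have e' : E.map (trAdic I M hn) = inv (E.map (qAdic I M n)) ≫ E.map (qAdic I M N) := by
        rw [IsIso.eq_inv_comp, ← E.map_comp, qAdic_tr]
      rw [e, e']
      simp

variable [PreservesFiniteLimits E] [PreservesFiniteColimits E] [EnoughProjectives C]

lemma ker_lift {P : C} [Projective P] {A B B' : ModuleCat.{w} R} (u : A ⟶ B) (u' : A ⟶ B')
    (h : ∀ a, u.hom a = 0 → u'.hom a = 0) (z : P ⟶ E.obj A) (hz : z ≫ E.map u = 0) :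
    z ≫ E.map u' = 0 := by
  let S := ShortComplex.mk (kernel.ι u) u (kernel.condition u)
  have hS : S.Exact := ShortComplex.exact_of_f_is_kernel _ (kernelIsKernel u)
  have hk : kernel.ι u ≫ u' = 0 := by
    ext a
    exact h _ (congr($(kernel.condition u) a))
  refine (congrArg (· ≫ E.map u') ((hS.map E).liftFromProjective_comp z hz).symm).trans
    ((Category.assoc _ _ _).trans ?_)
  change _ ≫ E.map (kernel.ι u) ≫ E.map u' = 0
  rw [← E.map_comp, hk, E.map_zero]
  exact comp_zero

lemma exact_lift {P : C} [Projective P] {A B B' : ModuleCat.{w} R} (u : A ⟶ B) (v : B ⟶ B')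
    (h : ∀ b, v.hom b = 0 → ∃ a, u.hom a = b) (w : u ≫ v = 0) (z : P ⟶ E.obj B) (hz : z ≫ E.map v = 0) :
    ∃ y : P ⟶ E.obj A, y ≫ E.map u = z := by
  have hS : (ShortComplex.mk u v w).Exact := (ShortComplex.moduleCat_exact_iff _).2 h
  exact ⟨_, (hS.map E).liftFromProjective_comp z hz⟩

variable [IsNoetherianRing R]

/-- Exactness of the completion on finite modules. -/
theorem shortExact_adicΦ {S : ShortComplex (ModuleCat.{w} R)} (hS : S.ShortExact) [Module.Finite R S.X₂]
    [(adicΦ I E).PreservesZeroMorphisms] : (S.map (adicΦ I E)).ShortExact := by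
  have hf : Function.Injective S.f.hom := (ModuleCat.mono_iff_injective _).1 hS.mono_f
  have hg : Function.Surjective S.g.hom := (ModuleCat.epi_iff_surjective _).1 hS.epi_g
  have hex := (ShortComplex.moduleCat_exact_iff _).1 hS.exact
  obtain ⟨c, hc⟩ : ∃ c, ∀ n m, S.f.hom m ∈ (I ^ (n + c) • ⊤ : Submodule R S.X₂) →
      m ∈ (I ^ n • ⊤ : Submodule R S.X₁) := by
    obtain ⟨k, hk⟩ := Ideal.exists_pow_inf_eq_pow_smul I (LinearMap.range S.f.hom)
    refine ⟨k, fun n m hm => ?_⟩
    have e : S.f.hom m ∈ I ^ (n + k - k) • (I ^ k • ⊤ ⊓ LinearMap.range S.f.hom) := by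
      rw [← hk (n + k) (Nat.le_add_left k n)]
      exact ⟨hm, m, rfl⟩
    have e2 : S.f.hom m ∈ (I ^ n • ⊤ : Submodule R S.X₁).map S.f.hom := by
      rw [Submodule.map_smul'', Submodule.map_top]
      rw [Nat.add_sub_cancel] at e
      exact Submodule.smul_mono le_rfl inf_le_right e
    obtain ⟨m', hm', hmm⟩ := e2
    rwa [← hf hmm]
  -- lifts of the kernel of `Φ f`
  have key : ∀ {P : C} [Projective P] (n : ℕ) (z : P ⟶ E.obj S.X₁),
      z ≫ E.map (S.f ≫ qAdic I S.X₂ (n + c)) = 0 → z ≫ E.map (qAdic I S.X₁ n) = 0 :=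
    fun n z hz => ker_lift E _ _ (fun a ha => (Submodule.Quotient.mk_eq_zero _).2
      (hc n a ((Submodule.Quotient.mk_eq_zero _).1 ha))) z hz
  have hfq : ∀ n, E.map (qAdic I S.X₁ n) ≫ E.map (((adicTower I).map S.f).app (op n)) =
      E.map (S.f ≫ qAdic I S.X₂ n) := fun n => by rw [← E.map_comp, qAdic_map]
  have hmono : Mono ((adicΦ I E).map S.f) := Preadditive.mono_of_cancel_zero _ fun {Z} W hW => by
    rw [← cancel_epi (Projective.π Z), comp_zero]
    refine adicΦ_hom_ext I E fun n => ?_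
    rw [Limits.zero_comp]
    have : Epi (qAdic I S.X₁ (n + c)) := (ModuleCat.epi_iff_surjective _).2 (Submodule.mkQ_surjective _)
    let z := Projective.factorThru ((Projective.π Z ≫ W) ≫ πAdic I E S.X₁ (n + c)) (E.map (qAdic I S.X₁ (n + c)))
    have hz : z ≫ E.map (qAdic I S.X₁ (n + c)) = _ := Projective.factorThru_comp _ _
    rw [← πAdic_tr I E S.X₁ (Nat.le_add_right n c), ← Category.assoc, ← hz, Category.assoc, ← E.map_comp,
      qAdic_tr]
    refine key n z ?_
    rw [← hfq, reassoc_of% hz, ← map_πAdic, reassoc_of% hW]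
    simp
  have hepi : Epi ((adicΦ I E).map S.g) := by
    let P := Projective.over ((adicΦ I E).obj S.X₃)
    let y : ∀ n, P ⟶ E.obj (((adicTower I).obj S.X₃).obj (op n)) :=
      fun n => Projective.π _ ≫ πAdic I E S.X₃ n
    let G : ∀ n, ((adicTower I).obj S.X₂).obj (op n) ⟶ ((adicTower I).obj S.X₃).obj (op n) :=
      fun n => ((adicTower I).map S.g).app (op n)
    have hG : ∀ n, Epi (G n) := fun n => (ModuleCat.epi_iff_surjective _).2 fun m => by
      obtain ⟨m, rfl⟩ := Submodule.Quotient.mk_surjective _ m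
      obtain ⟨a, rfl⟩ := hg m
      exact ⟨Submodule.Quotient.mk a, rfl⟩
    have hker : ∀ n (b : ((adicTower I).obj S.X₂).obj (op n)), (G n).hom b = 0 →
        ∃ a, (S.f ≫ qAdic I S.X₂ n).hom a = b := fun n b hb => by
      obtain ⟨b, rfl⟩ := Submodule.Quotient.mk_surjective _ b
      have h1 : S.g.hom b ∈ (I ^ n • ⊤ : Submodule R S.X₂).map S.g.hom := by
        rw [Submodule.map_smul'', Submodule.map_top, LinearMap.range_eq_top.2 hg]
        exact (Submodule.Quotient.mk_eq_zero _).1 hb
      obtain ⟨b', hb', hbb⟩ := h1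
      obtain ⟨a, ha⟩ := hex (b - b') (by rw [map_sub, hbb, sub_self])
      refine ⟨a, (Submodule.Quotient.eq _).2 (show S.f.hom a - b ∈ _ from ?_)⟩
      rw [show S.f.hom a = b - b' from ha, sub_sub_cancel_left]
      exact Submodule.neg_mem _ hb'
    have hw : ∀ n, (S.f ≫ qAdic I S.X₂ n) ≫ G n = 0 := fun n => by
      rw [Category.assoc, qAdic_map, S.zero_assoc, Limits.zero_comp]
    have step : ∀ n (x : P ⟶ E.obj (((adicTower I).obj S.X₂).obj (op n))), x ≫ E.map (G n) = y n →
        ∃ x' : P ⟶ E.obj (((adicTower I).obj S.X₂).obj (op (n + 1))), x' ≫ E.map (G (n + 1)) = y (n + 1) ∧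
          x' ≫ E.map (trAdic I S.X₂ (Nat.le_add_right n 1)) = x := fun n x hx => by
      have hnat : trAdic I S.X₂ (Nat.le_add_right n 1) ≫ G n = G (n + 1) ≫ trAdic I S.X₃ (Nat.le_add_right n 1) :=
        ((adicTower I).map S.g).naturality (homOfLE (Nat.le_add_right n 1)).op
      have := hG (n + 1)
      let x0 := Projective.factorThru (y (n + 1)) (E.map (G (n + 1)))
      have hx0 : x0 ≫ E.map (G (n + 1)) = y (n + 1) := Projective.factorThru_comp _ _
      obtain ⟨z, hz⟩ := exact_lift E _ _ (hker n) (hw n) (x - x0 ≫ E.map (trAdic I S.X₂ (Nat.le_add_right n 1))) (by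
        rw [Preadditive.sub_comp, hx, Category.assoc, ← E.map_comp, hnat, E.map_comp, reassoc_of% hx0]
        simp only [y, Category.assoc, πAdic_tr, sub_self])
      refine ⟨x0 + z ≫ E.map (S.f ≫ qAdic I S.X₂ (n + 1)), ?_, ?_⟩
      · rw [Preadditive.add_comp, hx0, Category.assoc, ← E.map_comp, hw, E.map_zero, comp_zero, add_zero]
      · rw [Preadditive.add_comp, Category.assoc, ← E.map_comp, Category.assoc, qAdic_tr, hz]
        abel
    choose nx hnx₁ hnx₂ using step
    have := hG 0
    let T : ∀ n, { x : P ⟶ E.obj (((adicTower I).obj S.X₂).obj (op n)) // x ≫ E.map (G n) = y n } :=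
      fun n => Nat.rec ⟨Projective.factorThru (y 0) (E.map (G 0)), Projective.factorThru_comp _ _⟩
        (fun k x => ⟨nx k x.1 x.2, hnx₁ k x.1 x.2⟩) n
    obtain ⟨a, ha⟩ := exists_lift_adicΦ I E (fun n => (T n).1) fun n => hnx₂ n (T n).1 (T n).2
    have : a ≫ (adicΦ I E).map S.g = Projective.π _ := adicΦ_hom_ext I E fun n => by
      rw [Category.assoc, map_πAdic, reassoc_of% (ha n)]
      exact (T n).2
    have : Epi (a ≫ (adicΦ I E).map S.g) := by rw [this]; infer_instance
    exact epi_of_epi a _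
  refine { exact := ?_, mono_f := hmono, epi_g := hepi }
  rw [ShortComplex.exact_iff_exact_up_to_refinements]
  intro A x hx
  let x' : Projective.over A ⟶ (adicΦ I E).obj S.X₂ := Projective.π A ≫ x
  have hx' : x' ≫ (adicΦ I E).map S.g = 0 := by
    exact (Category.assoc _ _ _).trans ((congrArg (Projective.π A ≫ ·) hx).trans comp_zero)
  have hex' : ∀ k, ∃ z : Projective.over A ⟶ E.obj S.X₁,
      z ≫ E.map (S.f ≫ qAdic I S.X₂ k) = x' ≫ πAdic I E S.X₂ k := fun k => by
    refine exact_lift E _ (((adicTower I).map S.g).app (op k)) (fun b hb => ?_) ?_ _ ?_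
    · obtain ⟨b, rfl⟩ := Submodule.Quotient.mk_surjective _ b
      have h1 : S.g.hom b ∈ (I ^ k • ⊤ : Submodule R S.X₂).map S.g.hom := by
        rw [Submodule.map_smul'', Submodule.map_top, LinearMap.range_eq_top.2 hg]
        exact (Submodule.Quotient.mk_eq_zero _).1 hb
      obtain ⟨b', hb', hbb⟩ := h1
      obtain ⟨a, ha⟩ := hex (b - b') (by rw [map_sub, hbb, sub_self])
      refine ⟨a, (Submodule.Quotient.eq _).2 (show S.f.hom a - b ∈ _ from ?_)⟩
      rw [show S.f.hom a = b - b' from ha, sub_sub_cancel_left]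
      exact Submodule.neg_mem _ hb'
    · rw [Category.assoc, qAdic_map, S.zero_assoc, Limits.zero_comp]
    · rw [Category.assoc, ← map_πAdic, reassoc_of% hx', Limits.zero_comp]
  choose z hz using hex'
  obtain ⟨W, hW⟩ := exists_lift_adicΦ I E (fun n => z (n + c) ≫ E.map (qAdic I S.X₁ n)) fun n => by
    rw [Category.assoc, ← E.map_comp, qAdic_tr, ← sub_eq_zero, ← Preadditive.sub_comp]
    refine key n _ ?_
    rw [Preadditive.sub_comp, sub_eq_zero, hz,
      show S.f ≫ qAdic I S.X₂ (n + c) =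
        (S.f ≫ qAdic I S.X₂ (n + 1 + c)) ≫ trAdic I S.X₂ (by omega : n + c ≤ n + 1 + c) by
          rw [Category.assoc, qAdic_tr],
      E.map_comp, reassoc_of% (hz (n + 1 + c)), πAdic_tr]
  refine ⟨Projective.over A, Projective.π A, inferInstance, W, ?_⟩
  change x' = W ≫ (adicΦ I E).map S.f
  refine adicΦ_hom_ext I E fun n => ?_
  rw [Category.assoc W ((adicΦ I E).map S.f), map_πAdic, reassoc_of% (hW n), hfq,
    show S.f ≫ qAdic I S.X₂ n = (S.f ≫ qAdic I S.X₂ (n + c)) ≫ trAdic I S.X₂ (Nat.le_add_right n c) by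
      rw [Category.assoc, qAdic_tr],
    E.map_comp, reassoc_of% (hz (n + c)), πAdic_tr]

instance [E.Additive] : (adicΦ I E).Additive where
  map_add {M N f g} := adicΦ_hom_ext I E fun n => by
    rw [Preadditive.add_comp, map_πAdic, map_πAdic, map_πAdic, ← Preadditive.comp_add, ← E.map_add]
    congr 2
    ext m
    obtain ⟨m, rfl⟩ := Submodule.Quotient.mk_surjective _ m
    rfl

instance [E.Additive] [Linear R C] [E.Linear R] : (adicΦ I E).Linear R where
  map_smul {M N} f r := adicΦ_hom_ext I E fun n => by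
    rw [Linear.smul_comp, map_πAdic, map_πAdic, ← Linear.comp_smul, ← E.map_smul]
    congr 2
    ext m
    obtain ⟨m, rfl⟩ := Submodule.Quotient.mk_surjective _ m
    rfl

/-- The restriction to finite modules. -/
noncomputable abbrev fgι (R : Type w) [CommRing R] [IsNoetherianRing R] :
    FGModuleCat.{w} R ⥤ ModuleCat.{w} R :=
  forget₂ (FGModuleCat.{w} R) (ModuleCat.{w} R)

theorem preservesFiniteLimits_colimits_fg [E.Additive] :
    PreservesFiniteLimits (fgι R ⋙ adicΦ I E) ∧ PreservesFiniteColimits (fgι R ⋙ adicΦ I E) := by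
  refine ((Functor.exact_tfae (fgι R ⋙ adicΦ I E)).out 0 3).1 fun S hS => ?_
  have : Module.Finite R (S.map (fgι R)).X₂ := S.X₂.2
  exact shortExact_adicΦ I E (S := S.map (fgι R)) (hS.map_of_exact (fgι R))

end Groth.Agent.DerTele91
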