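import Mathlib.Algebra.Homology.DerivedCategory.Ext.EnoughProjectives
import Mathlib.Algebra.Homology.DerivedCategory.Ext.Linear
import Mathlib.CategoryTheory.Limits.HasLimits
import Mathlib.CategoryTheory.Linear.Basic

/-!
Bijectivity of the telescope map `(x n) ↦ (x n - f • x (n + 1))` on morphisms and extensions.
-/

set_option autoImplicit false

universe w v u t s

open CategoryTheory CategoryTheory.Limits Abelian

namespace Groth.Agent.DerTele91

section Module

variable {R : Type t} [CommRing R] (f : R) {M : Type s} [AddCommGroup M] [Module R M]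

/-- The telescope map. -/
def tmap (x : ℕ → M) : ℕ → M := fun n => x n - f • x (n + 1)

/-- The telescope map is bijective. -/
def TBij (M : Type s) [AddCommGroup M] [Module R M] : Prop := Function.Bijective (tmap f (M := M))

lemma tmap_sub (x y : ℕ → M) : tmap f (x - y) = tmap f x - tmap f y := by
  funext n; simp [tmap, smul_sub]; abel

lemma tmap_zero : tmap f (0 : ℕ → M) = 0 := by funext n; simp [tmap]

variable {f}

lemma TBij.eq_zero (h : TBij f M) {x : ℕ → M} (hx : ∀ n, x n = f • x (n + 1)) : x = 0 :=
  h.1 (by rw [tmap_zero]; funext n; exact sub_eq_zero.2 (hx n))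

lemma tBij_of (hinj : ∀ x : ℕ → M, (∀ n, x n = f • x (n + 1)) → x = 0)
    (hsurj : ∀ y : ℕ → M, ∃ x : ℕ → M, ∀ n, x n - f • x (n + 1) = y n) : TBij f M := by
  refine ⟨fun a b e => sub_eq_zero.1 (hinj _ fun n => sub_eq_zero.1 ?_), fun y => ?_⟩
  · have := congrFun (tmap_sub f a b) n
    rw [e, sub_self] at this
    exact this
  · obtain ⟨x, hx⟩ := hsurj y
    exact ⟨x, funext hx⟩

lemma TBij.exists_solution (h : TBij f M) (y : ℕ → M) : ∃ x : ℕ → M, ∀ n, x n - f • x (n + 1) = y n := by
  obtain ⟨x, hx⟩ := h.2 y
  exact ⟨x, congrFun hx⟩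

lemma tBij_of_linearEquiv.{r} {N : Type r} [AddCommGroup N] [Module R N] (e : M ≃ₗ[R] N) (h : TBij f M) :
    TBij f N := by
  refine tBij_of (fun x hx => ?_) fun y => ?_
  · have := h.eq_zero (x := fun n => e.symm (x n)) fun n => by rw [← e.symm.map_smul]; exact congrArg _ (hx n)
    funext n
    exact e.symm.map_eq_zero_iff.1 (congrFun this n)
  · obtain ⟨x, hx⟩ := h.exists_solution fun n => e.symm (y n)
    exact ⟨fun n => e (x n), fun n => by rw [← e.map_smul, ← map_sub, hx, e.apply_symm_apply]⟩

lemma tBij_of_subsingleton [Subsingleton M] : TBij f M :=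
  tBij_of (fun _ _ => Subsingleton.elim _ _) fun _ => ⟨0, fun _ => Subsingleton.elim _ _⟩

lemma tBij_of_nilpotent (N : ℕ) (h : ∀ x : M, f ^ N • x = 0) : TBij f M := by
  refine tBij_of (fun x hx => ?_) fun y => ?_
  · have : ∀ k n, x n = f ^ k • x (n + k) := fun k => by
      induction k with
      | zero => simp
      | succ k ih => intro n; rw [ih n, hx (n + k), smul_smul, pow_succ, ← Nat.add_assoc]
    funext n
    rw [this N n, h]; rfl
  · refine ⟨fun n => ∑ j ∈ Finset.range N, f ^ j • y (n + j), fun n => ?_⟩
    change _ - f • ∑ j ∈ Finset.range N, f ^ j • y (n + 1 + j) = _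
    rw [Finset.smul_sum, ← Finset.sum_sub_distrib]
    have : ∀ j ∈ Finset.range N, f ^ j • y (n + j) - f • f ^ j • y (n + 1 + j) =
        f ^ j • y (n + j) - f ^ (j + 1) • y (n + (j + 1)) := fun j _ => by
      rw [smul_smul, ← pow_succ', show n + 1 + j = n + (j + 1) by omega]
    rw [Finset.sum_congr rfl this, Finset.sum_range_sub' fun j => f ^ j • y (n + j)]
    simp [h]

/-- An element of a module killed by the telescope condition and by Nakayama. -/
lemma subsingleton_of_surjective (h : TBij f M) (hs : ∀ m : M, ∃ m', f • m' = m) : Subsingleton M := by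
  choose g hg using hs
  refine subsingleton_of_forall_eq 0 fun m => ?_
  have := h.eq_zero (x := fun n => g^[n] m) fun n => by
    change g^[n] m = f • g^[n + 1] m
    rw [Function.iterate_succ_apply', hg]
  exact congrFun this 0

end Module

variable {C : Type u} [Category.{v} C] [Abelian C] {R : Type t} [CommRing R] [Linear R C] (f : R)

/-- The telescope map is bijective on maps out of projective objects. -/
def IsTele (F : C) : Prop := ∀ (P : C) [Projective P], TBij f (P ⟶ F)

variable {f}

lemma isTele_of_iso {F G : C} (e : F ≅ G) (h : IsTele f F) : IsTele f G := fun P _ =>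
  tBij_of_linearEquiv
    { toFun := fun g => g ≫ e.hom
      map_add' := fun _ _ => Preadditive.add_comp _ _ _ _ _ _
      map_smul' := fun _ _ => Linear.smul_comp _ _ _ _ _ _
      invFun := fun g => g ≫ e.inv
      left_inv := fun g => by simp
      right_inv := fun g => by simp } (h P)

/-- Limits. -/
lemma isTele_of_isLimit {J : Type*} [Category J] {D : J ⥤ C} {c : Cone D} (hc : IsLimit c)
    (h : ∀ j, IsTele f (D.obj j)) : IsTele f c.pt := fun P _ => by
  refine tBij_of (fun x hx => ?_) fun y => ?_
  · funext n
    refine hc.hom_ext fun j => ?_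
    have := (h j P).eq_zero (x := fun n => x n ≫ c.π.app j) fun n => by
      rw [← Linear.smul_comp, ← hx n]
    rw [Pi.zero_apply, Limits.zero_comp]
    exact congrFun this n
  · choose x hx using fun j => (h j P).exists_solution fun n => y n ≫ c.π.app j
    have hnat : ∀ {i j : J} (a : i ⟶ j) n, x i n ≫ D.map a = x j n := by
      intro i j a n
      refine congrFun (sub_eq_zero.1 ((h j P).eq_zero (x := (fun n => x i n ≫ D.map a) - x j) fun n => ?_)) n
      refine sub_eq_zero.1 ?_
      simp only [Pi.sub_apply, smul_sub]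
      rw [← Linear.smul_comp]
      have e1 := congrArg (· ≫ D.map a) (hx i n)
      simp only [Preadditive.sub_comp, Category.assoc, c.w] at e1
      rw [← hx j n] at e1
      rw [← sub_eq_zero] at e1
      refine Eq.trans ?_ e1
      abel
    let cn : ℕ → Cone D := fun n => ⟨P, { app := fun j => x j n
                                          naturality := fun i j a => (Category.id_comp _).trans (hnat a n).symm }⟩
    refine ⟨fun n => hc.lift (cn n), fun n => hc.hom_ext fun j => ?_⟩
    rw [Preadditive.sub_comp, Linear.smul_comp, hc.fac, hc.fac]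
    exact hx j n

variable {S : ShortComplex C} (hS : S.ShortExact)
include hS

lemma isTele_X₂ (h1 : IsTele f S.X₁) (h3 : IsTele f S.X₃) : IsTele f S.X₂ := fun P _ => by
  have := hS.mono_f
  have := hS.epi_g
  refine tBij_of (fun x hx => ?_) fun y => ?_
  · have h0 := (h3 P).eq_zero (x := fun n => x n ≫ S.g) fun n => by rw [← Linear.smul_comp, ← hx n]
    choose z hz using fun n => (⟨_, hS.exact.lift_f (x n) (congrFun h0 n)⟩ : ∃ z, z ≫ S.f = x n)
    have := (h1 P).eq_zero (x := z) fun n => by
      rw [← cancel_mono S.f, Linear.smul_comp, hz, hz]; exact hx n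
    funext n
    rw [← hz n, congrFun this n]
    simp
  · obtain ⟨a, ha⟩ := (h3 P).exists_solution fun n => y n ≫ S.g
    let b := fun n => Projective.factorThru (a n) S.g
    have hb : ∀ n, (y n - (b n - f • b (n + 1))) ≫ S.g = 0 := fun n => by
      rw [Preadditive.sub_comp, Preadditive.sub_comp, Linear.smul_comp]
      simp only [b, Projective.factorThru_comp]
      rw [ha, sub_self]
    obtain ⟨c, hc⟩ := (h1 P).exists_solution fun n => hS.exact.lift _ (hb n)
    refine ⟨fun n => b n + c n ≫ S.f, fun n => ?_⟩
    have e := congrArg (· ≫ S.f) (hc n)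
    simp only [Preadditive.sub_comp, Linear.smul_comp, hS.exact.lift_f] at e
    change (b n + c n ≫ S.f) - f • (b (n + 1) + c (n + 1) ≫ S.f) = _
    rw [smul_add, show (b n + c n ≫ S.f) - (f • b (n + 1) + f • c (n + 1) ≫ S.f) =
      (b n - f • b (n + 1)) + (c n ≫ S.f - f • c (n + 1) ≫ S.f) by abel, e]
    abel

lemma isTele_X₃ (h1 : IsTele f S.X₁) (h2 : IsTele f S.X₂) : IsTele f S.X₃ := fun P _ => by
  have := hS.mono_f
  have := hS.epi_g
  refine tBij_of (fun x hx => ?_) fun y => ?_
  · let a := fun n => Projective.factorThru (x n) S.g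
    have h0 : ∀ n, (a n - f • a (n + 1)) ≫ S.g = 0 := fun n => by
      rw [Preadditive.sub_comp, Linear.smul_comp]
      simp only [a, Projective.factorThru_comp]
      exact sub_eq_zero.2 (hx n)
    obtain ⟨c, hc⟩ := (h1 P).exists_solution fun n => hS.exact.lift _ (h0 n)
    have hz := (h2 P).eq_zero (x := fun n => a n - c n ≫ S.f) fun n => by
      have e := congrArg (· ≫ S.f) (hc n)
      simp only [Preadditive.sub_comp, Linear.smul_comp, hS.exact.lift_f] at e
      refine sub_eq_zero.1 ?_
      rw [smul_sub, show (a n - c n ≫ S.f) - (f • a (n + 1) - f • c (n + 1) ≫ S.f) =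
        (a n - f • a (n + 1)) - (c n ≫ S.f - f • c (n + 1) ≫ S.f) by abel, e, sub_self]
    funext n
    have : a n = c n ≫ S.f := sub_eq_zero.1 (congrFun hz n)
    rw [← Projective.factorThru_comp (x n) S.g]
    change a n ≫ S.g = _
    rw [this, Category.assoc, S.zero, comp_zero]; rfl
  · obtain ⟨a, ha⟩ := (h2 P).exists_solution fun n => Projective.factorThru (y n) S.g
    refine ⟨fun n => a n ≫ S.g, fun n => ?_⟩
    rw [← Linear.smul_comp, ← Preadditive.sub_comp, ha, Projective.factorThru_comp]

omit hS

/-- Kernels. -/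
lemma isTele_kernel {F G : C} (φ : F ⟶ G) (hF : IsTele f F) (hG : IsTele f G) : IsTele f (kernel φ) :=
    fun P _ => by
  refine tBij_of (fun x hx => ?_) fun y => ?_
  · have := (hF P).eq_zero (x := fun n => x n ≫ kernel.ι φ) fun n => by rw [← Linear.smul_comp, ← hx n]
    funext n
    rw [← cancel_mono (kernel.ι φ), Pi.zero_apply, Limits.zero_comp]
    exact congrFun this n
  · obtain ⟨a, ha⟩ := (hF P).exists_solution fun n => y n ≫ kernel.ι φ
    have h0 := (hG P).eq_zero (x := fun n => a n ≫ φ) fun n => by
      refine sub_eq_zero.1 ?_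
      rw [← Linear.smul_comp, ← Preadditive.sub_comp, ha, Category.assoc, kernel.condition, comp_zero]
    refine ⟨fun n => kernel.lift φ (a n) (congrFun h0 n), fun n => ?_⟩
    rw [← cancel_mono (kernel.ι φ)]
    simp [ha]

/-- Cokernels. -/
lemma isTele_cokernel {F G : C} (φ : F ⟶ G) (hF : IsTele f F) (hG : IsTele f G) : IsTele f (cokernel φ) := by
  let S₁ := ShortComplex.mk (kernel.ι φ) (Abelian.coimage.π φ) (cokernel.condition _)
  have h₁ : S₁.ShortExact :=
    { exact := ShortComplex.exact_of_g_is_cokernel _ (cokernelIsCokernel (kernel.ι φ)) }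
  have hI : IsTele f (Abelian.image φ) :=
    isTele_of_iso (asIso (Abelian.coimageImageComparison φ)) (isTele_X₃ h₁ (isTele_kernel φ hF hG) hF)
  let S₂ := ShortComplex.mk (Abelian.image.ι φ) (cokernel.π φ) (kernel.condition _)
  have h₂ : S₂.ShortExact :=
    { exact := ShortComplex.exact_of_f_is_kernel _ (kernelIsKernel (cokernel.π φ)) }
  exact isTele_X₃ h₂ hI hG

/-- The telescope map is bijective on all morphisms. -/
lemma tBij_hom [EnoughProjectives C] {F : C} (h : IsTele f F) (A : C) : TBij f (A ⟶ F) := by
  refine tBij_of (fun x hx => ?_) fun y => ?_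
  · have := (h (Projective.over A)).eq_zero (x := fun n => Projective.π A ≫ x n) fun n => by
      rw [← Linear.comp_smul, ← hx n]
    funext n
    rw [← cancel_epi (Projective.π A), Pi.zero_apply, comp_zero]
    exact congrFun this n
  · obtain ⟨x, hx⟩ := (h (Projective.over A)).exists_solution fun n => Projective.π A ≫ y n
    let T := ShortComplex.mk (kernel.ι (Projective.π A)) (Projective.π A) (kernel.condition _)
    have hT : T.ShortExact :=
      { exact := ShortComplex.exact_of_f_is_kernel _ (kernelIsKernel (Projective.π A)) }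
    let P' := Projective.over (kernel (Projective.π A))
    have h0 := (h P').eq_zero (x := fun n => Projective.π _ ≫ kernel.ι (Projective.π A) ≫ x n) fun n => by
      refine sub_eq_zero.1 ?_
      rw [← Linear.comp_smul, ← Preadditive.comp_sub, ← Linear.comp_smul, ← Preadditive.comp_sub, hx,
        ← Category.assoc (kernel.ι (Projective.π A)), kernel.condition, Limits.zero_comp, comp_zero]
    have h1 : ∀ n, kernel.ι (Projective.π A) ≫ x n = 0 := fun n => by
      rw [← cancel_epi (Projective.π (kernel (Projective.π A))), comp_zero]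
      exact congrFun h0 n
    have hc := Abelian.epiIsCokernelOfKernel _ (kernelIsKernel (Projective.π A))
    let b := fun n => (CokernelCofork.IsColimit.desc' hc (x n) (h1 n)).1
    have hb : ∀ n, _ ≫ b n = x n := fun n => (CokernelCofork.IsColimit.desc' hc (x n) (h1 n)).2
    refine ⟨b, fun n => ?_⟩
    rw [← cancel_epi (Projective.π A), Preadditive.comp_sub, Linear.comp_smul]
    exact (congrArg₂ (fun a c => a - f • c) (hb n) (hb (n + 1))).trans (hx n)

variable [HasExt.{w} C]

/-- The telescope map is bijective on extensions. -/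
lemma tBij_ext [EnoughProjectives C] {F : C} (h : IsTele f F) :
    ∀ (n : ℕ) (A : C), TBij f (Ext.{w} A F n) := by
  intro n
  induction n with
  | zero =>
    intro A
    exact tBij_of_linearEquiv
      { toFun := Ext.mk₀
        map_add' := fun a b => Ext.mk₀_add a b
        map_smul' := fun r a => Ext.mk₀_smul r a
        invFun := Ext.homEquiv₀
        left_inv := fun a => Ext.homEquiv₀.apply_symm_apply a
        right_inv := fun a => Ext.mk₀_homEquiv₀_apply a } (tBij_hom h A)
  | succ n ih =>
    intro A
    let T := ShortComplex.mk (kernel.ι (Projective.π A)) (Projective.π A) (kernel.condition _)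
    have hT : T.ShortExact :=
      { exact := ShortComplex.exact_of_f_is_kernel _ (kernelIsKernel (Projective.π A)) }
    have hsurj : ∀ x : Ext A F (n + 1), ∃ z : Ext (kernel (Projective.π A)) F n,
        hT.extClass.comp z (Nat.add_comm 1 n) = x := fun x =>
      Ext.contravariant_sequence_exact₃ hT F x (Ext.eq_zero_of_projective _) (Nat.add_comm 1 n)
    refine tBij_of (fun x hx => ?_) fun y => ?_
    · choose z hz using fun k => hsurj (x k)
      have h0 : ∀ k, hT.extClass.comp (z k - f • z (k + 1)) (Nat.add_comm 1 n) = 0 := fun k => by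
        rw [sub_eq_add_neg, Ext.comp_add, Ext.comp_neg, Ext.comp_smul, hz, hz, ← hx k, add_neg_cancel]
      choose p hp using fun k => Ext.contravariant_sequence_exact₁ hT F _ _ (h0 k)
      obtain ⟨q, hq⟩ := (ih _).exists_solution p
      have hz' := (ih _).eq_zero (x := fun k => z k - (Ext.mk₀ T.f).comp (q k) (zero_add n)) fun k => by
        refine sub_eq_zero.1 ?_
        rw [smul_sub, ← Ext.comp_smul, show z k - (Ext.mk₀ T.f).comp (q k) (zero_add n) -
          (f • z (k + 1) - (Ext.mk₀ T.f).comp (f • q (k + 1)) (zero_add n)) = (z k - f • z (k + 1)) -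
            ((Ext.mk₀ T.f).comp (q k) (zero_add n) - (Ext.mk₀ T.f).comp (f • q (k + 1)) (zero_add n)) by abel,
          ← hp k, sub_eq_zero, sub_eq_add_neg, ← Ext.comp_neg, ← Ext.comp_add, ← sub_eq_add_neg, hq]
      funext k
      rw [← hz k, sub_eq_zero.1 (congrFun hz' k), hT.extClass_comp_assoc]
      rfl
    · choose z hz using fun k => hsurj (y k)
      obtain ⟨q, hq⟩ := (ih _).exists_solution z
      refine ⟨fun k => hT.extClass.comp (q k) (Nat.add_comm 1 n), fun k => ?_⟩
      rw [← Ext.comp_smul, sub_eq_add_neg, ← Ext.comp_neg, ← Ext.comp_add, ← sub_eq_add_neg, hq, hz]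

/-- Extensions from an object on which `f` is invertible vanish. -/
lemma subsingleton_ext [EnoughProjectives C] {F L : C} (h : IsTele f F) (g : L ⟶ L) (hg : f • g = 𝟙 L)
    (n : ℕ) : Subsingleton (Ext.{w} L F n) := by
  refine subsingleton_of_surjective (tBij_ext h n L) fun x => ⟨(Ext.mk₀ g).comp x (zero_add n), ?_⟩
  rw [← Ext.smul_comp, ← Ext.mk₀_smul, hg, Ext.mk₀_id_comp]

end Groth.Agent.DerTele91
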