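import Groth.Agent.DerTele91.Basic
import Mathlib.CategoryTheory.Triangulated.Pretriangulated
import Mathlib.CategoryTheory.Shift.Linear
import Mathlib.LinearAlgebra.Quotient.Basic

/-!
Descending bijectivity of precomposition along the cone of multiplication by a scalar.
-/

set_option autoImplicit false

universe w v u t

open CategoryTheory CategoryTheory.Limits CategoryTheory.Pretriangulated

namespace Groth.Agent.DerTele91

variable {R : Type t} [CommRing R]

lemma tBij_quotient_range {M N : Type*} [AddCommGroup M] [Module R M] [AddCommGroup N] [Module R N]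
    {f : R} (g : M →ₗ[R] N) (hM : TBij f M) (hN : TBij f N) : TBij f (N ⧸ LinearMap.range g) := by
  refine tBij_of (fun x hx => ?_) fun y => ?_
  · choose a ha using fun n => Submodule.Quotient.mk_surjective _ (x n)
    have : ∀ n, ∃ w, g w = a n - f • a (n + 1) := fun n => by
      have h0 : (Submodule.Quotient.mk (a n - f • a (n + 1)) : N ⧸ LinearMap.range g) = 0 := by
        rw [Submodule.Quotient.mk_sub, Submodule.Quotient.mk_smul, ha, ha, sub_eq_zero]
        exact hx n
      exact (Submodule.Quotient.mk_eq_zero _).1 h0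
    choose w hw using this
    obtain ⟨z, hz⟩ := hM.exists_solution w
    have e := hN.eq_zero (x := fun n => a n - g (z n)) fun n => by
      refine sub_eq_zero.1 ?_
      rw [smul_sub, ← map_smul, show a n - g (z n) - (f • a (n + 1) - g (f • z (n + 1))) =
        (a n - f • a (n + 1)) - (g (z n) - g (f • z (n + 1))) by abel, ← map_sub, hz, hw, sub_self]
    funext n
    rw [← ha n, Pi.zero_apply, Submodule.Quotient.mk_eq_zero]
    exact ⟨z n, (sub_eq_zero.1 (congrFun e n)).symm⟩
  · choose b hb using fun n => Submodule.Quotient.mk_surjective _ (y n)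
    obtain ⟨x, hx⟩ := hN.exists_solution b
    exact ⟨fun n => Submodule.Quotient.mk (x n), fun n => by
      rw [← Submodule.Quotient.mk_smul, ← Submodule.Quotient.mk_sub, hx, hb]⟩

lemma tBij_ker {M N : Type*} [AddCommGroup M] [Module R M] [AddCommGroup N] [Module R N]
    {f : R} (g : M →ₗ[R] N) (hM : TBij f M) (hN : TBij f N) : TBij f (LinearMap.ker g) := by
  refine tBij_of (fun x hx => ?_) fun y => ?_
  · have := hM.eq_zero (x := fun n => (x n).1) fun n => congrArg Subtype.val (hx n)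
    funext n
    exact Subtype.ext (congrFun this n)
  · obtain ⟨a, ha⟩ := hM.exists_solution fun n => (y n).1
    have h0 := hN.eq_zero (x := fun n => g (a n)) fun n => by
      refine sub_eq_zero.1 ?_
      rw [← map_smul, ← map_sub, ha]
      exact (y n).2
    exact ⟨fun n => ⟨a n, congrFun h0 n⟩, fun n => Subtype.ext (ha n)⟩

variable {D : Type u} [Category.{v} D] [Preadditive D] [HasZeroObject D] [HasShift D ℤ]
  [∀ n : ℤ, (shiftFunctor D n).Additive] [Pretriangulated D] [Linear R D]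

/-- On the cone of `a`, `a²` is zero; powers killing the source kill the cone. -/
lemma smul_id_cone (a : R) {T : Triangle D} (hT : T ∈ distTriang D) (h12 : T.obj₁ = T.obj₂)
    (h1 : T.mor₁ = a • eqToHom h12) [∀ n : ℤ, (shiftFunctor D n).Linear R] :
    (a * a) • 𝟙 T.obj₃ = 0 ∧ ∀ (b : R) (N : ℕ), b ^ N • 𝟙 T.obj₁ = 0 → b ^ (N + N) • 𝟙 T.obj₃ = 0 := by
  obtain ⟨X, X', L, φ, i, δ⟩ := T
  obtain rfl : X = X' := h12
  change φ = a • 𝟙 X at h1
  subst h1
  have key : ∀ c : R, c • i = 0 → c • δ = 0 → (c * c) • 𝟙 L = 0 := fun c hi hd => by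
    obtain ⟨w, hw⟩ := Triangle.yoneda_exact₃ _ hT (c • 𝟙 L) (by
      change i ≫ (c • 𝟙 L) = 0
      rw [Linear.comp_smul, Category.comp_id, hi])
    change _ = δ ≫ w at hw
    rw [mul_smul, hw, ← Linear.smul_comp, hd, Limits.zero_comp]
  have hi : a • i = 0 := by
    have := comp_distTriang_mor_zero₁₂ _ hT
    change (a • 𝟙 X) ≫ i = 0 at this
    simpa using this
  have hd : a • δ = 0 := by
    have := comp_distTriang_mor_zero₃₁ _ hT
    change δ ≫ (a • 𝟙 X)⟦(1 : ℤ)⟧' = 0 at this
    simpa [Functor.map_smul] using this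
  refine ⟨key a hi hd, fun b N hb => ?_⟩
  change b ^ (N + N) • 𝟙 L = 0
  change b ^ N • 𝟙 X = 0 at hb
  rw [pow_add]
  refine key _ ?_ ?_
  · rw [← Category.id_comp i, ← Linear.smul_comp, hb, Limits.zero_comp]
  · rw [← Category.comp_id δ, ← Linear.comp_smul, ← CategoryTheory.Functor.map_id, ← Functor.map_smul, hb,
      Functor.map_zero, comp_zero]

/-- Precomposition with `u` is bijective if it is with the induced map `w` on the cones of `a`,
provided the telescope of `a` is bijective on the maps involved. -/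
theorem bijective_of_cone [∀ n : ℤ, (shiftFunctor D n).Linear R] (a : R) (P : ObjectProperty D)
    (hP : ∀ (Z : D) (n : ℤ), P Z → P (Z⟦n⟧))
    {X X' L L' : D} {i : X ⟶ L} {δ : L ⟶ X⟦(1 : ℤ)⟧} {i' : X' ⟶ L'} {δ' : L' ⟶ X'⟦(1 : ℤ)⟧}
    (hT : Triangle.mk (a • 𝟙 X) i δ ∈ distTriang D) (hT' : Triangle.mk (a • 𝟙 X') i' δ' ∈ distTriang D)
    (u : X ⟶ X') (w : L ⟶ L') (hi : u ≫ i' = i ≫ w) (hd : w ≫ δ' = δ ≫ u⟦(1 : ℤ)⟧')
    (hw : ∀ Z, P Z → Function.Bijective fun m : L' ⟶ Z => w ≫ m)
    (hX : ∀ Z, P Z → TBij a (X ⟶ Z)) (hX' : ∀ Z, P Z → TBij a (X' ⟶ Z)) (Z : D) (hZ : P Z) :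
    Function.Bijective fun m : X' ⟶ Z => u ≫ m := by
  let F := shiftFunctor D (1 : ℤ)
  have hinj : ∀ Z, P Z → ∀ v : X' ⟶ Z, u ≫ v = 0 → v = 0 := by
    intro Z hZ
    let g : (X' ⟶ Z) →ₗ[R] (X ⟶ Z) :=
      { toFun := fun m => u ≫ m
        map_add' := fun _ _ => Preadditive.comp_add _ _ _ _ _ _
        map_smul' := fun _ _ => Linear.comp_smul _ _ _ _ _ _ }
    have : Subsingleton (LinearMap.ker g) := by
      refine subsingleton_of_surjective (f := a) (tBij_ker g (hX' Z hZ) (hX Z hZ)) ?_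
      rintro ⟨v, hv⟩
      change u ≫ v = 0 at hv
      have h0 : δ' ≫ F.map v = 0 := (hw (F.obj Z) (hP Z 1 hZ)).1 (by
        change w ≫ δ' ≫ F.map v = w ≫ 0
        rw [reassoc_of% hd, ← Functor.map_comp, hv, Functor.map_zero, comp_zero, comp_zero])
      obtain ⟨r, hr⟩ : ∃ r : F.obj X' ⟶ F.obj Z, F.map v = (-F.map (a • 𝟙 X')) ≫ r :=
        Triangle.yoneda_exact₂ _ (rot_of_distTriang _ (rot_of_distTriang _ hT')) (F.map v) h0
      obtain ⟨r', rfl⟩ := F.map_surjective r
      have hv' : v = a • (-r') := F.map_injective (by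
        rw [hr, Functor.map_smul, Functor.map_smul, Functor.map_neg, CategoryTheory.Functor.map_id,
          Preadditive.neg_comp, Linear.smul_comp, Category.id_comp, smul_neg])
      obtain ⟨z, hz⟩ := Triangle.yoneda_exact₂ _ hT (u ≫ (-r')) (by
        change (a • 𝟙 X) ≫ u ≫ (-r') = 0
        rw [Linear.smul_comp, Category.id_comp, ← Linear.comp_smul, ← hv', hv])
      change u ≫ (-r') = i ≫ z at hz
      obtain ⟨z', rfl⟩ := (hw Z hZ).2 z
      refine ⟨⟨-r' - i' ≫ z', ?_⟩, Subtype.ext ?_⟩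
      · change u ≫ ((-r') - i' ≫ z') = 0
        rw [Preadditive.comp_sub, hz, reassoc_of% hi, sub_self]
      · have h12 : a • (i' ≫ z') = 0 := by
          have e : (a • 𝟙 X') ≫ i' = 0 := comp_distTriang_mor_zero₁₂ _ hT'
          have := congrArg (· ≫ z') e
          simpa using this
        change a • ((-r') - i' ≫ z') = v
        rw [smul_sub, h12, sub_zero, ← hv']
    intro v hv
    exact congrArg Subtype.val (Subsingleton.elim (⟨v, hv⟩ : LinearMap.ker g) 0)
  let g : (X' ⟶ Z) →ₗ[R] (X ⟶ Z) :=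
    { toFun := fun m => u ≫ m
      map_add' := fun _ _ => Preadditive.comp_add _ _ _ _ _ _
      map_smul' := fun _ _ => Linear.comp_smul _ _ _ _ _ _ }
  refine ⟨fun v v' hv => sub_eq_zero.1 (hinj Z hZ _ ?_), fun n => ?_⟩
  · rw [Preadditive.comp_sub, sub_eq_zero]
    exact hv
  have : Subsingleton ((X ⟶ Z) ⧸ LinearMap.range g) := by
    refine subsingleton_of_surjective (f := a) (tBij_quotient_range g (hX' Z hZ) (hX Z hZ)) fun m => ?_
    obtain ⟨n, rfl⟩ := Submodule.Quotient.mk_surjective _ m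
    obtain ⟨s, hs⟩ := (hw (F.obj Z) (hP Z 1 hZ)).2 (δ ≫ F.map n)
    change w ≫ s = _ at hs
    have h0 : i' ≫ s = 0 := hinj _ (hP Z 1 hZ) _ (by
      rw [reassoc_of% hi, hs]
      have e : i ≫ δ = 0 := comp_distTriang_mor_zero₂₃ _ hT
      rw [reassoc_of% e, Limits.zero_comp])
    obtain ⟨q, hq⟩ : ∃ q : F.obj X' ⟶ F.obj Z, s = δ' ≫ q :=
      Triangle.yoneda_exact₂ _ (rot_of_distTriang _ hT') s h0
    obtain ⟨m, rfl⟩ := F.map_surjective q
    have h1 : δ ≫ F.map (n - u ≫ m) = 0 := by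
      rw [Functor.map_sub, Preadditive.comp_sub, sub_eq_zero, Functor.map_comp, ← reassoc_of% hd, ← hq, hs]
    obtain ⟨r, hr⟩ : ∃ r : F.obj X ⟶ F.obj Z, F.map (n - u ≫ m) = (-F.map (a • 𝟙 X)) ≫ r :=
      Triangle.yoneda_exact₂ _ (rot_of_distTriang _ (rot_of_distTriang _ hT)) (F.map (n - u ≫ m)) h1
    obtain ⟨r', rfl⟩ := F.map_surjective r
    have hn : n - u ≫ m = a • (-r') := F.map_injective (by
      rw [hr, Functor.map_smul, Functor.map_smul, Functor.map_neg, CategoryTheory.Functor.map_id,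
        Preadditive.neg_comp, Linear.smul_comp, Category.id_comp, smul_neg])
    refine ⟨Submodule.Quotient.mk (-r'), ?_⟩
    rw [← Submodule.Quotient.mk_smul, ← hn, Submodule.Quotient.eq]
    exact ⟨-m, by
      change u ≫ (-m) = n - u ≫ m - n
      rw [Preadditive.comp_neg]; abel⟩
  obtain ⟨m, hm⟩ := (Submodule.Quotient.mk_eq_zero _).1
    (Subsingleton.elim (Submodule.Quotient.mk n : (X ⟶ Z) ⧸ LinearMap.range g) 0)
  exact ⟨m, hm⟩

end Groth.Agent.DerTele91
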