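import Groth.Agent.DerTele91.Gen
import Groth.Agent.DR39.Hom
import Groth.Agent.CohDer42.RlimRight
import Groth.Agent.CohDer42.BrownGroth
import Mathlib.Algebra.Homology.DerivedCategory.Linear
import Mathlib.Algebra.Homology.DerivedCategory.SingleTriangle
import Mathlib.Algebra.Homology.DerivedCategory.HomologySequence

/-!
The telescope condition on cohomology objects and vanishing of morphisms in the derived category.
-/

set_option autoImplicit false

universe w v u t

open CategoryTheory CategoryTheory.Limits CategoryTheory.Pretriangulated DerivedCategory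

namespace Groth.Agent.DerTele91

set_option linter.unusedSectionVars false

variable {C : Type u} [Category.{v} C] [Abelian C] [HasDerivedCategory.{w} C]

/-- A map inducing bijections on maps out of all projectives is an isomorphism. -/
lemma isIso_of_projective [EnoughProjectives C] {X Y : C} (a : X ⟶ Y)
    (h : ∀ (P : C) [Projective P], Function.Bijective fun z : P ⟶ X => z ≫ a) : IsIso a := by
  have : Mono a := Preadditive.mono_of_cancel_zero _ fun {Z} z hz => by
    rw [← cancel_epi (Projective.π Z), comp_zero]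
    exact (h (Projective.over Z)).1 (by simp [hz])
  have : Epi a := by
    obtain ⟨z, hz⟩ := (h (Projective.over Y)).2 (Projective.π Y)
    have : Epi (z ≫ a) := by rw [show z ≫ a = Projective.π Y from hz]; infer_instance
    exact epi_of_epi z a
  exact isIso_of_mono_of_epi a

variable {R : Type t} [CommRing R] [Linear R C] {f : R}

/-- `Hom(P[0], Y) = Hom(P, H⁰Y)`, linearly. -/
noncomputable def homH0 (P : C) [Projective P] (Y : DerivedCategory C) :
    ((singleFunctor C 0).obj P ⟶ Y) ≃ₗ[R] (P ⟶ (homologyFunctor C 0).obj Y) :=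
  LinearEquiv.ofBijective
    { toFun := DR39.homToH0 P Y
      map_add' := fun a b => by simp [DR39.homToH0, Functor.map_add]
      map_smul' := fun r a => by
        change DR39.homToH0 P Y (r • a) = r • DR39.homToH0 P Y a
        rw [show r • a = (singleFunctor C 0).map (r • 𝟙 P) ≫ a by
            rw [Functor.map_smul, CategoryTheory.Functor.map_id, Linear.smul_comp, Category.id_comp],
          DR39.homToH0_precomp, Linear.smul_comp, Category.id_comp] }
    (DR39.homToH0_bijective P Y)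

lemma homH0_apply (P : C) [Projective P] (Y : DerivedCategory C) (a : (singleFunctor C 0).obj P ⟶ Y) :
    homH0 (R := R) P Y a = DR39.homToH0 P Y a := rfl

/-- `H⁰` of a shift. -/
noncomputable def homShift (K : DerivedCategory C) (n : ℤ) :
    (homologyFunctor C 0).obj (K⟦n⟧) ≅ (homologyFunctor C n).obj K :=
  ((homologyFunctor C 0).shiftIso n 0 n (add_zero n)).app K

/-- The forward direction. -/
lemma tBij_of_vanish [IsGrothendieckAbelian.{v} C] {A L : C} [Projective A] (c : ℕ → (A ⟶ L))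
    (hc : ∀ n, c n = f • c (n + 1))
    (huniv : ∀ (Y : C) (x : ℕ → (A ⟶ Y)), (∀ n, x n = f • x (n + 1)) → ∃! g : L ⟶ Y, ∀ n, c n ≫ g = x n)
    {K : DerivedCategory C} (h0 : ∀ n : ℤ, Subsingleton ((singleFunctor C 0).obj L ⟶ K⟦n⟧)) (p : ℤ) :
    TBij f (A ⟶ (homologyFunctor C p).obj K) := by
  obtain ⟨φ, q, hφq, hT, hφ⟩ := exists_tele_shortExact c hc huniv
  let S : ULift.{v} ℕ → C := fun _ => A
  let Z := K⟦p⟧
  have hbij : Function.Bijective fun a : (∐ S) ⟶ (homologyFunctor C 0).obj Z => φ ≫ a := by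
    refine ⟨fun a b e => ?_, fun b => ?_⟩
    · obtain ⟨a', ha⟩ := (DR39.homToH0_bijective (∐ S) Z).2 a
      obtain ⟨b', hb⟩ := (DR39.homToH0_bijective (∐ S) Z).2 b
      rw [← sub_eq_zero, ← ha, ← hb]
      have h1 : (singleFunctor C 0).map φ ≫ (a' - b') = 0 := by
        apply (DR39.homToH0_bijective (∐ S) Z).1
        rw [DR39.homToH0_precomp]
        have e' : φ ≫ a = φ ≫ b := e
        simp only [DR39.homToH0, Functor.map_sub, Functor.map_zero, Preadditive.comp_sub, comp_zero] at ha hb ⊢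
        rw [ha, hb, e', sub_self]
      obtain ⟨w, hw⟩ := Triangle.yoneda_exact₂ _ hT.singleTriangle_distinguished (a' - b') h1
      have h2 : w = 0 := @Subsingleton.elim _ (h0 p) _ _
      have h3 : a' - b' = 0 := hw.trans (by rw [h2, comp_zero]; rfl)
      rw [sub_eq_zero.1 h3, sub_self]
    · obtain ⟨b', rfl⟩ := (DR39.homToH0_bijective (∐ S) Z).2 b
      let T := hT.singleTriangle
      have h3 : T.invRotate.mor₁ ≫ b' = 0 := by
        have e : (shiftFunctor (DerivedCategory C) (1 : ℤ)).map (T.invRotate.mor₁ ≫ b') = 0 := by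
          have h4 : Subsingleton (T.obj₃ ⟶ (shiftFunctor (DerivedCategory C) (p + 1)).obj K) := h0 (p + 1)
          exact ((Iso.homCongr ((shiftFunctorCompIsoId _ (-1 : ℤ) 1 (by norm_num)).app T.obj₃)
              ((shiftFunctorAdd (DerivedCategory C) p 1).app K).symm).injective) (h4.elim _ _)
        exact (shiftFunctor (DerivedCategory C) (1 : ℤ)).map_injective (e.trans (Functor.map_zero _ _ _).symm)
      obtain ⟨a, ha⟩ := Triangle.yoneda_exact₂ _ (inv_rot_of_distTriang _ hT.singleTriangle_distinguished) b' h3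
      refine ⟨DR39.homToH0 (∐ S) Z a, ?_⟩
      change φ ≫ DR39.homToH0 (∐ S) Z a = _
      refine (DR39.homToH0_precomp φ Z a).symm.trans (congrArg _ ?_)
      exact ha.symm
  refine tBij_of_linearEquiv (M := A ⟶ (homologyFunctor C 0).obj Z)
    (Linear.homCongr R (Iso.refl A) (homShift K p)) (tBij_of (fun x hx => ?_) fun y => ?_)
  · have : (Sigma.desc fun n : ULift.{v} ℕ => x n.down : ∐ S ⟶ _) = 0 := by
      refine hbij.1 ?_
      change φ ≫ _ = φ ≫ 0
      rw [comp_zero]
      refine Sigma.hom_ext _ _ fun n => ?_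
      rw [reassoc_of% (hφ n), comp_zero, Preadditive.sub_comp, Linear.smul_comp, Sigma.ι_desc, Sigma.ι_desc]
      exact sub_eq_zero.2 (hx n.down)
    funext n
    have e := congrArg (Sigma.ι S ⟨n⟩ ≫ ·) this
    simpa [S] using e
  · obtain ⟨a, ha⟩ := hbij.2 (Sigma.desc fun n : ULift.{v} ℕ => y n.down)
    refine ⟨fun n => Sigma.ι S ⟨n⟩ ≫ a, fun n => ?_⟩
    have e := congrArg (Sigma.ι S ⟨n⟩ ≫ ·) ha
    simp only [Sigma.ι_desc] at e
    rw [← e, reassoc_of% (show Sigma.ι S ⟨n⟩ ≫ φ = _ from hφ ⟨n⟩), Preadditive.sub_comp, Linear.smul_comp]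

/-- The telescope map is bijective on morphisms into shifts of `K`. -/
theorem tBij_homD [IsGrothendieckAbelian.{v} C] [EnoughProjectives C]
    {K : DerivedCategory C} (hK : ∀ p : ℤ, IsTele f ((homologyFunctor C p).obj K))
    (W : DerivedCategory C) (n : ℤ) : TBij f (W ⟶ K⟦n⟧) := by
  obtain ⟨I, hI, ⟨e⟩⟩ := Mod48.exists_Qh_iso_kInjective C (fun M =>
    let ⟨I, a, hI, ha, _⟩ := CohDer42.exists_kinjective_resolution M
    ⟨I, a, hI, ha⟩) (K⟦n⟧)
  let Y : DerivedCategory C := Q.obj I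
  let eY : K⟦n⟧ ≅ Y := e.symm ≪≫ (quotientCompQhIso C).app I
  let J : ULift.{v} ℕ → CochainComplex C ℤ := fun _ => I
  let X : DerivedCategory C := Q.obj (∏ᶜ J)
  let π : ULift.{v} ℕ → (X ⟶ Y) := fun k => Q.map (Pi.π J k)
  have hπ : ∀ Z : DerivedCategory C, Function.Bijective fun a : Z ⟶ X => fun k => a ≫ π k :=
    fun Z => CohDer42.RlimRight.Q_pi_bijective J (fun _ => hI) Z
  obtain ⟨T, hT⟩ := (hπ X).2 fun k => π k - f • π ⟨k.down + 1⟩
  have hTk : ∀ {Z : DerivedCategory C} (a : Z ⟶ X) (k : ℕ),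
      (a ≫ T) ≫ π ⟨k⟩ = a ≫ π ⟨k⟩ - f • (a ≫ π ⟨k + 1⟩) := fun a k => by
    rw [Category.assoc, show T ≫ π ⟨k⟩ = _ from congrFun hT ⟨k⟩, Preadditive.comp_sub, Linear.comp_smul]
  have hpost : ∀ {Z : DerivedCategory C}, TBij f (Z ⟶ Y) → Function.Bijective fun a : Z ⟶ X => a ≫ T := by
    intro Z h
    refine ⟨fun a b hab => (hπ Z).1 ?_, fun b => ?_⟩
    · have := h.eq_zero (x := fun k => a ≫ π ⟨k⟩ - b ≫ π ⟨k⟩) fun k => by
        refine sub_eq_zero.1 ?_
        rw [smul_sub, show a ≫ π ⟨k⟩ - b ≫ π ⟨k⟩ - (f • (a ≫ π ⟨k + 1⟩) - f • (b ≫ π ⟨k + 1⟩)) =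
          (a ≫ π ⟨k⟩ - f • (a ≫ π ⟨k + 1⟩)) - (b ≫ π ⟨k⟩ - f • (b ≫ π ⟨k + 1⟩)) by abel,
          ← hTk, ← hTk, show a ≫ T = b ≫ T from hab, sub_self]
      funext ⟨k⟩
      exact sub_eq_zero.1 (congrFun this k)
    · obtain ⟨x, hx⟩ := h.exists_solution fun k => b ≫ π ⟨k⟩
      obtain ⟨a, ha⟩ := (hπ Z).2 fun k => x k.down
      refine ⟨a, (hπ Z).1 ?_⟩
      funext ⟨k⟩
      change (a ≫ T) ≫ π ⟨k⟩ = _
      rw [hTk, show a ≫ π ⟨k⟩ = x k from congrFun ha ⟨k⟩, show a ≫ π ⟨k + 1⟩ = x (k + 1) from congrFun ha ⟨k + 1⟩]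
      exact hx k
  have : IsIso T := by
    refine (DerivedCategory.isIso_iff C T).2 fun m => ?_
    suffices IsIso ((homologyFunctor C 0).map (T⟦m⟧')) by
      exact ((NatIso.isIso_map_iff ((homologyFunctor C 0).shiftIso m 0 m (add_zero m)) T).1 this)
    refine isIso_of_projective _ fun P _ => ?_
    let F := shiftFunctor (DerivedCategory C) m
    let Z : DerivedCategory C := ((singleFunctor C 0).obj P)⟦-m⟧
    let eZ : F.obj Z ≅ (singleFunctor C 0).obj P := (shiftFunctorCompIsoId _ (-m) m (by omega)).app _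
    have hZ : TBij f (Z ⟶ Y) := by
      have h1 : TBij f ((singleFunctor C 0).obj P ⟶ (K⟦n⟧)⟦m⟧) :=
        tBij_of_linearEquiv (homH0 (R := R) P _).symm
          (isTele_of_iso ((homologyFunctor C 0).mapIso ((shiftFunctorAdd (DerivedCategory C) n m).app K)) (isTele_of_iso (homShift K (n + m)).symm (hK (n + m))) P)
      let e1 : ((singleFunctor C 0).obj P ⟶ (K⟦n⟧)⟦m⟧) ≃ₗ[R] (F.obj Z ⟶ F.obj Y) :=
        Linear.homCongr R eZ.symm (F.mapIso eY)
      let e2 : (Z ⟶ Y) ≃ₗ[R] (F.obj Z ⟶ F.obj Y) := LinearEquiv.ofBijective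
        { toFun := F.map
          map_add' := fun a b => F.map_add
          map_smul' := fun r a => F.map_smul r a }
        ⟨F.map_injective, F.map_surjective⟩
      exact tBij_of_linearEquiv (e1 ≪≫ₗ e2.symm) h1
    have hb : Function.Bijective fun a : (singleFunctor C 0).obj P ⟶ F.obj X => a ≫ F.map T := by
      refine ⟨fun a b hab => ?_, fun b => ?_⟩
      · obtain ⟨a', ha⟩ := F.map_surjective (eZ.hom ≫ a)
        obtain ⟨b', hb⟩ := F.map_surjective (eZ.hom ≫ b)
        have : a' = b' := (hpost hZ).1 (F.map_injective (by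
          rw [Functor.map_comp, Functor.map_comp, ha, hb, Category.assoc, Category.assoc]
          exact congrArg (eZ.hom ≫ ·) hab))
        rw [← cancel_epi eZ.hom, ← ha, ← hb, this]
      · obtain ⟨b', hb⟩ := F.map_surjective (eZ.hom ≫ b)
        obtain ⟨a, ha⟩ := (hpost hZ).2 b'
        refine ⟨eZ.inv ≫ F.map a, ?_⟩
        change (eZ.inv ≫ F.map a) ≫ F.map T = b
        rw [Category.assoc, ← Functor.map_comp, show a ≫ T = b' from ha, hb, Iso.inv_hom_id_assoc]
    refine ⟨fun z z' hz => ?_, fun z => ?_⟩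
    · obtain ⟨a, rfl⟩ := (DR39.homToH0_bijective P (F.obj X)).2 z
      obtain ⟨a', rfl⟩ := (DR39.homToH0_bijective P (F.obj X)).2 z'
      refine congrArg _ (hb.1 ((DR39.homToH0_bijective P (F.obj X)).1 ?_))
      rw [DR39.homToH0_postcomp, DR39.homToH0_postcomp]
      exact hz
    · obtain ⟨b, rfl⟩ := (DR39.homToH0_bijective P (F.obj X)).2 z
      obtain ⟨a, rfl⟩ := hb.2 b
      exact ⟨DR39.homToH0 P _ a, (DR39.homToH0_postcomp P a (F.map T)).symm⟩
  let Z := W
  have hb : Function.Bijective fun a : Z ⟶ X => a ≫ T := (asIso T).homToEquiv.bijective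
  have hY : TBij f (Z ⟶ Y) := by
    refine tBij_of (fun x hx => ?_) fun y => ?_
    · obtain ⟨a, ha⟩ := (hπ Z).2 fun k => x k.down
      have hk : ∀ k, a ≫ π ⟨k⟩ = x k := fun k => congrFun ha ⟨k⟩
      have : a = 0 := hb.1 ((hπ Z).1 (funext fun k => by
        obtain ⟨k⟩ := k
        change (a ≫ T) ≫ π ⟨k⟩ = ((0 : Z ⟶ X) ≫ T) ≫ π ⟨k⟩
        rw [hTk, hk, hk, ← hx k, sub_self, Limits.zero_comp, Limits.zero_comp]))
      funext k
      rw [← hk k, this, Limits.zero_comp]
      rfl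
    · obtain ⟨b, hb'⟩ := (hπ Z).2 fun k => y k.down
      obtain ⟨a, rfl⟩ := hb.2 b
      exact ⟨fun k => a ≫ π ⟨k⟩, fun k => (hTk a k).symm.trans (congrFun hb' ⟨k⟩)⟩
  exact tBij_of_linearEquiv (Linear.homCongr R (Iso.refl Z) eY.symm) hY

/-- The reverse direction. -/
theorem subsingleton_of_isTele [IsGrothendieckAbelian.{v} C] [EnoughProjectives C]
    {K : DerivedCategory C} (hK : ∀ p : ℤ, IsTele f ((homologyFunctor C p).obj K))
    {L : C} (g : L ⟶ L) (hg : f • g = 𝟙 L) (n : ℤ) :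
    Subsingleton ((singleFunctor C 0).obj L ⟶ K⟦n⟧) :=
  subsingleton_of_surjective (tBij_homD hK _ n) fun a => ⟨(singleFunctor C 0).map g ≫ a, by
    rw [← Linear.smul_comp, ← Functor.map_smul, hg, CategoryTheory.Functor.map_id, Category.id_comp]⟩

end Groth.Agent.DerTele91
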