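import Groth.Agent.DerTele91.Basic
import Groth.Agent.CohDer42.Telescope

/-!
The telescope condition on a family of projective generators, and its deduction from the vanishing of
extensions from a telescope colimit.
-/

set_option autoImplicit false

universe w v u t

open CategoryTheory CategoryTheory.Limits Abelian

namespace Groth.Agent.DerTele91

variable {C : Type u} [Category.{v} C] [Abelian C] {R : Type t} [CommRing R] [Linear R C] {f : R}
  [IsGrothendieckAbelian.{v} C]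

section Gen

variable {ι : Type*} (G : ι → C) (hgen : ∀ X : C, ∃ (κ : Type v) (i : κ → ι) (p : (∐ fun k => G (i k)) ⟶ X), Epi p)
include hgen

/-- Projective generators give enough projectives. -/
lemma enoughProjectives (hG : ∀ i, Projective (G i)) : EnoughProjectives C where
  presentation X := by
    obtain ⟨κ, i, p, hp⟩ := hgen X
    exact ⟨{ p := ∐ fun k => G (i k), f := p }⟩

/-- It suffices to test the telescope condition on generators. -/
lemma isTele_of_gen {F : C} (h : ∀ i, TBij f (G i ⟶ F)) : IsTele f F := fun P _ => by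
  obtain ⟨κ, i, p, hp⟩ := hgen P
  refine tBij_of (fun x hx => ?_) fun y => ?_
  · funext n
    rw [← cancel_epi p, Pi.zero_apply, comp_zero]
    refine Sigma.hom_ext _ _ fun k => ?_
    rw [comp_zero, ← Category.assoc]
    exact congrFun ((h (i k)).eq_zero (x := fun n => (Sigma.ι (fun k => G (i k)) k ≫ p) ≫ x n) fun n => by
      rw [← Linear.comp_smul, ← hx n]) n
  · choose z hz using fun k => (h (i k)).exists_solution fun n => (Sigma.ι (fun k => G (i k)) k ≫ p) ≫ y n
    refine ⟨fun n => Projective.factorThru (𝟙 P) p ≫ Sigma.desc fun k => z k n, fun n => ?_⟩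
    rw [← Linear.comp_smul, ← Preadditive.comp_sub]
    have : (Sigma.desc fun k => z k n) - f • (Sigma.desc fun k => z k (n + 1)) = p ≫ y n :=
      Sigma.hom_ext _ _ fun k => by
        rw [Preadditive.comp_sub, Linear.comp_smul, Sigma.ι_desc, Sigma.ι_desc, hz, Category.assoc]
    rw [this, Projective.factorThru_comp_assoc, Category.id_comp]

end Gen

/-- The two-term resolution of the colimit `L` of `A -f→ A -f→ ⋯`. -/
theorem exists_tele_shortExact {A L : C} (c : ℕ → (A ⟶ L)) (hc : ∀ n, c n = f • c (n + 1))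
    (huniv : ∀ (Y : C) (x : ℕ → (A ⟶ Y)), (∀ n, x n = f • x (n + 1)) → ∃! g : L ⟶ Y, ∀ n, c n ≫ g = x n) :
    ∃ (φ : (∐ fun _ : ULift.{v} ℕ => A) ⟶ ∐ fun _ : ULift.{v} ℕ => A) (q : (∐ fun _ : ULift.{v} ℕ => A) ⟶ L)
      (h : φ ≫ q = 0), (ShortComplex.mk φ q h).ShortExact ∧ ∀ n : ULift.{v} ℕ,
        Sigma.ι (fun _ : ULift.{v} ℕ => A) n ≫ φ =
          Sigma.ι (fun _ : ULift.{v} ℕ => A) n - f • Sigma.ι (fun _ : ULift.{v} ℕ => A) ⟨n.down + 1⟩ := by
  classical
  let S : ULift.{v} ℕ → C := fun _ => A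
  let φ : ∐ S ⟶ ∐ S := Sigma.desc fun n => Sigma.ι S n - f • Sigma.ι S ⟨n.down + 1⟩
  let q : ∐ S ⟶ L := Sigma.desc fun n => c n.down
  have hφq : φ ≫ q = 0 := Sigma.hom_ext _ _ fun n => by
    simp only [φ, q, Sigma.ι_desc_assoc, Preadditive.sub_comp, Linear.smul_comp, Sigma.ι_desc, comp_zero]
    exact sub_eq_zero.2 (hc n.down)
  let π : ∀ n : ULift.{v} ℕ, ∐ S ⟶ A := fun n => Sigma.desc fun m => if m = n then 𝟙 A else 0
  have hδ : Mono (Pi.lift π : ∐ S ⟶ ∏ᶜ S) := CohDer42.Telescope.mono_sigmaToPi S _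
    (fun n => by simp [π, S]) (fun n m h => by simp [π, S, h])
  have hmono : Mono φ := by
    refine Preadditive.mono_of_cancel_zero _ fun {W} k hk => ?_
    have h00 : φ ≫ π ⟨0⟩ = π ⟨0⟩ := Sigma.hom_ext _ _ fun m => by
      simp only [φ, π, Sigma.ι_desc_assoc, Preadditive.sub_comp, Linear.smul_comp, Sigma.ι_desc]
      rw [if_neg (show ¬ (⟨m.down + 1⟩ : ULift.{v} ℕ) = ⟨0⟩ from fun e => Nat.succ_ne_zero _ (congrArg ULift.down e))]
      simp
    have hs : ∀ j : ℕ, φ ≫ π ⟨j + 1⟩ = π ⟨j + 1⟩ - f • π ⟨j⟩ := fun j => Sigma.hom_ext _ _ fun m => by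
      simp only [φ, π, Sigma.ι_desc_assoc, Preadditive.sub_comp, Preadditive.comp_sub, Linear.smul_comp,
        Linear.comp_smul, Sigma.ι_desc]
      obtain ⟨m⟩ := m
      simp [ULift.ext_iff]
    have hk0 : ∀ j : ℕ, k ≫ π ⟨j⟩ = 0 := fun j => by
      induction j with
      | zero => rw [← h00, reassoc_of% hk, Limits.zero_comp]
      | succ j ih =>
        have e := congrArg (k ≫ ·) (hs j)
        simp only [reassoc_of% hk, Limits.zero_comp, Preadditive.comp_sub, Linear.comp_smul, ih, smul_zero,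
          sub_zero] at e
        exact e.symm
    rw [← cancel_mono (Pi.lift π : ∐ S ⟶ ∏ᶜ S), Limits.zero_comp]
    exact Pi.hom_ext _ _ fun n => by
      rw [Category.assoc, Pi.lift_π, Limits.zero_comp]
      exact hk0 n.down
  have hseq : ∀ {Y : C} (a : ∐ S ⟶ Y), φ ≫ a = 0 → ∀ n, Sigma.ι S ⟨n⟩ ≫ a = f • (Sigma.ι S ⟨n + 1⟩ ≫ a) := by
    intro Y a ha n
    have := congrArg (Sigma.ι S ⟨n⟩ ≫ ·) ha
    simp only [φ, Sigma.ι_desc_assoc, Preadditive.sub_comp, Linear.smul_comp, comp_zero] at this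
    exact sub_eq_zero.1 this
  have hcok : IsColimit (CokernelCofork.ofπ q hφq) := CokernelCofork.IsColimit.ofπ _ _
    (fun {Y} a ha => (huniv Y _ (hseq a ha)).choose)
    (fun {Y} a ha => Sigma.hom_ext _ _ fun n => by
      simp only [q, Sigma.ι_desc_assoc]
      exact (huniv Y _ (hseq a ha)).choose_spec.1 n.down)
    (fun {Y} a ha b hb => (huniv Y _ (hseq a ha)).choose_spec.2 b fun n => by
      rw [← hb]; simp [q])
  have : Epi q := Cofork.IsColimit.epi hcok
  exact ⟨φ, q, hφq, { exact := ShortComplex.exact_of_g_is_cokernel _ hcok, mono_f := hmono, epi_g := ‹Epi q› },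
    fun n => Sigma.ι_desc _ _⟩

variable [HasExt.{w} C]

/-- Vanishing of `Hom` and `Ext¹` from the colimit `L` of `A -f→ A -f→ ⋯` gives the telescope condition. -/
theorem tBij_of_ext_vanish {A L F : C} (c : ℕ → (A ⟶ L)) (hc : ∀ n, c n = f • c (n + 1))
    (huniv : ∀ (Y : C) (x : ℕ → (A ⟶ Y)), (∀ n, x n = f • x (n + 1)) → ∃! g : L ⟶ Y, ∀ n, c n ≫ g = x n)
    (h0 : Subsingleton (L ⟶ F)) (h1 : Subsingleton (Ext.{w} L F 1)) : TBij f (A ⟶ F) := by
  obtain ⟨φ, q, hφq, hT, hφ⟩ := exists_tele_shortExact c hc huniv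
  let S : ULift.{v} ℕ → C := fun _ => A
  let T := ShortComplex.mk φ q hφq
  refine tBij_of (fun x hx => ?_) fun y => ?_
  · obtain ⟨g, hg, -⟩ := huniv F x hx
    funext n
    rw [← hg n, Subsingleton.elim g 0, comp_zero]
    rfl
  · obtain ⟨a, ha⟩ := Ext.contravariant_sequence_exact₁ hT F (n₁ := 1)
      (Ext.mk₀ (Sigma.desc fun n => y n.down : ∐ S ⟶ F)) rfl (Subsingleton.elim _ _)
    obtain ⟨a, rfl⟩ := (Ext.mk₀_bijective _ _).2 a
    rw [Ext.mk₀_comp_mk₀] at ha
    have e := (Ext.mk₀_bijective _ _).1 ha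
    refine ⟨fun n => Sigma.ι S ⟨n⟩ ≫ a, fun n => ?_⟩
    have := congrArg (Sigma.ι S ⟨n⟩ ≫ ·) e
    rw [reassoc_of% (hφ ⟨n⟩)] at this
    simpa [T, S, Preadditive.sub_comp, Linear.smul_comp] using this

end Groth.Agent.DerTele91
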