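import Groth.Agent.DerTele91.AdicExact
import Groth.Agent.DerTele91.Chase
import Groth.Agent.DerTele91.Derived
import Mathlib.Algebra.Homology.HomotopyCategory.Pretriangulated
import Mathlib.Algebra.Homology.DerivedCategory.FullyFaithful
import Mathlib.Algebra.Homology.SingleHomology
import Mathlib.Algebra.Homology.ShortComplex.Linear

/-!
Maps out of the completion into derived complete objects.
-/

set_option autoImplicit false
set_option linter.unusedSectionVars false

universe z w v u

open CategoryTheory CategoryTheory.Limits CategoryTheory.Pretriangulated HomologicalComplex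
open DerivedCategory (Q)

namespace Groth.Agent.DerTele91

variable {R : Type w} [CommRing R] [IsNoetherianRing R]

/-- Iterated cones of scalars. -/
noncomputable def kz : List R → CochainComplex (FGModuleCat.{w} R) ℤ
  | [] => (single _ (ComplexShape.up ℤ) 0).obj (FGModuleCat.of R R)
  | a :: l => CochainComplex.mappingCone (a • 𝟙 (kz l))

lemma kz_killed : ∀ (l : List R) (b : R), b ∈ l →
    ∃ N, b ^ N • 𝟙 ((HomotopyCategory.quotient (FGModuleCat.{w} R) (ComplexShape.up ℤ)).obj (kz l)) = 0
  | [], b, h => by simp at h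
  | a :: l, b, h => by
    let q := HomotopyCategory.quotient (FGModuleCat.{w} R) (ComplexShape.up ℤ)
    have hT : CochainComplex.mappingCone.triangleh (a • 𝟙 (kz l)) ∈
        distTriang (HomotopyCategory (FGModuleCat.{w} R) (ComplexShape.up ℤ)) :=
      ⟨_, _, _, ⟨Iso.refl _⟩⟩
    obtain ⟨h2, hN⟩ := smul_id_cone a hT rfl
      ((q.map_smul (r := a) (𝟙 (kz l))).trans (congrArg (a • ·) (q.map_id _)))
    rcases List.mem_cons.1 h with rfl | hb
    · exact ⟨2, by rw [pow_two]; exact h2⟩
    · obtain ⟨N, hN'⟩ := kz_killed l b hb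
      exact ⟨N + N, hN b N hN'⟩

lemma homology_killed (l : List R) (b : R) (hb : b ∈ l) (i : ℤ) :
    ∃ N, b ^ N • 𝟙 ((kz l).homology i) = 0 := by
  obtain ⟨N, hN⟩ := kz_killed l b hb
  refine ⟨N, ?_⟩
  let q := HomotopyCategory.quotient (FGModuleCat.{w} R) (ComplexShape.up ℤ)
  have e : q.map (b ^ N • 𝟙 (kz l)) = q.map 0 := by
    rw [q.map_smul, q.map_id, q.map_zero]
    exact hN
  have := (HomotopyCategory.homotopyOfEq _ _ e).homologyMap_eq i
  rw [homologyMap_zero] at this
  rw [← this, ← homologyMap_id]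
  exact (ShortComplex.homologyMap_smul
    ((shortComplexFunctor (FGModuleCat.{w} R) (ComplexShape.up ℤ) i).map (𝟙 (kz l))) (b ^ N)).symm.trans rfl

lemma homology_killed_ideal (l : List R) (i : ℤ) :
    ∃ M, ((Ideal.span {x | x ∈ l}) ^ M • ⊤ : Submodule R ((fgι R).obj ((kz l).homology i))) = ⊥ := by
  let H := (fgι R).obj ((kz l).homology i)
  obtain ⟨M, hM⟩ := Ideal.exists_pow_le_of_le_radical_of_fg (I := Ideal.span {x | x ∈ l})
    (J := Module.annihilator R H) (Ideal.span_le.2 fun b hb => by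
      obtain ⟨N, hN⟩ := homology_killed l b hb i
      refine ⟨N, Module.mem_annihilator.2 fun x => ?_⟩
      have e : (fgι R).map (b ^ N • 𝟙 ((kz l).homology i)) = b ^ N • 𝟙 H := by
        rw [Functor.map_smul, CategoryTheory.Functor.map_id]
      rw [hN, Functor.map_zero] at e
      exact congr($(e.symm) x)) (IsNoetherian.noetherian _)
  exact ⟨M, le_bot_iff.1 (Submodule.smul_le.2 fun r hr x _ =>
    Submodule.mem_bot R |>.2 (Module.mem_annihilator.1 (hM hr) x))⟩

variable {C : Type u} [Category.{v} C] [Abelian C] [Linear R C]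
  (E : ModuleCat.{w} R ⥤ C) [E.Additive] [E.Linear R] [PreservesFiniteLimits E] [PreservesFiniteColimits E]
  [EnoughProjectives C] [HasLimitsOfShape ℕᵒᵖ C]

lemma quasiIso_mapη (l : List R) (I : Ideal R) (hI : I = Ideal.span {x | x ∈ l}) :
    QuasiIso ((NatTrans.mapHomologicalComplex (Functor.whiskerLeft (fgι R) (adicη I E))
      (ComplexShape.up ℤ)).app (kz l)) := by
  obtain ⟨_, _⟩ := preservesFiniteLimits_colimits_fg I E
  refine ⟨fun i => (quasiIsoAt_iff _ i).2 ((ShortComplex.quasiIso_iff _).2 ?_)⟩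
  change IsIso (ShortComplex.homologyMap
    (((kz l).sc i).mapNatTrans (Functor.whiskerLeft (fgι R) (adicη I E))))
  obtain ⟨M, hM⟩ := homology_killed_ideal l i
  rw [← hI] at hM
  have : IsIso ((Functor.whiskerLeft (fgι R) (adicη I E)).app ((kz l).sc i).homology) := isIso_adicη I E hM
  rw [ShortComplex.homologyMap_mapNatTrans]
  infer_instance

section Triangle

variable {A : Type*} [Category A] [Abelian A] [HasDerivedCategory.{z} C] (G : A ⥤ C) [G.Additive]

/-- The image of a mapping cone triangle. -/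
noncomputable def imTri {K L : CochainComplex A ℤ} (φ : K ⟶ L) : Triangle (DerivedCategory C) :=
  Q.mapTriangle.obj ((G.mapHomologicalComplex _).mapTriangle.obj (CochainComplex.mappingCone.triangle φ))

lemma imTri_dist {K L : CochainComplex A ℤ} (φ : K ⟶ L) : imTri G φ ∈ distTriang (DerivedCategory C) :=
  isomorphic_distinguished _ (DerivedCategory.mappingCone_triangle_distinguished _) _
    (Q.mapTriangle.mapIso (CochainComplex.mappingCone.mapTriangleIso φ G))

variable [Linear R A] [G.Linear R]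

lemma imTri_dist_smul (a : R) (K : CochainComplex A ℤ) :
    Triangle.mk (a • 𝟙 (Q.obj ((G.mapHomologicalComplex _).obj K))) (imTri G (a • 𝟙 K)).mor₂
      (imTri G (a • 𝟙 K)).mor₃ ∈ distTriang (DerivedCategory C) := by
  have e : (G.mapHomologicalComplex (ComplexShape.up ℤ)).map (a • 𝟙 K) = a • 𝟙 _ := by
    ext n
    simp
  have e' : a • 𝟙 (Q.obj ((G.mapHomologicalComplex _).obj K)) = (imTri G (a • 𝟙 K)).mor₁ := by
    rw [← CategoryTheory.Functor.map_id, ← Functor.map_smul, ← e]
    rfl
  rw [e']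
  exact imTri_dist G _

lemma mapNatTrans_δ {G' : A ⥤ C} [G'.Additive] (τ : G ⟶ G') {K L : CochainComplex A ℤ} (φ : K ⟶ L) :
    Q.map ((NatTrans.mapHomologicalComplex τ _).app (CochainComplex.mappingCone φ)) ≫ (imTri G' φ).mor₃ =
      (imTri G φ).mor₃ ≫ (Q.map ((NatTrans.mapHomologicalComplex τ _).app K))⟦(1 : ℤ)⟧' := by
  let δ := (CochainComplex.mappingCone.triangle φ).mor₃
  have e : (NatTrans.mapHomologicalComplex τ (ComplexShape.up ℤ)).app (CochainComplex.mappingCone φ) ≫
      ((G'.mapHomologicalComplex _).map δ ≫ ((G'.mapHomologicalComplex _).commShiftIso (1 : ℤ)).hom.app K) =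
      ((G.mapHomologicalComplex _).map δ ≫ ((G.mapHomologicalComplex _).commShiftIso (1 : ℤ)).hom.app K) ≫
        ((NatTrans.mapHomologicalComplex τ _).app K)⟦(1 : ℤ)⟧' := by
    ext n
    change τ.app _ ≫ G'.map (δ.f n) ≫ 𝟙 _ = (G.map (δ.f n) ≫ 𝟙 _) ≫ τ.app _
    rw [Category.comp_id, Category.comp_id]
    exact (τ.naturality _).symm
  change Q.map _ ≫ (Q.map ((G'.mapHomologicalComplex _).map δ ≫
      ((G'.mapHomologicalComplex _).commShiftIso (1 : ℤ)).hom.app K) ≫ (Q.commShiftIso (1 : ℤ)).hom.app _) =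
    (Q.map ((G.mapHomologicalComplex _).map δ ≫ ((G.mapHomologicalComplex _).commShiftIso (1 : ℤ)).hom.app K) ≫
      (Q.commShiftIso (1 : ℤ)).hom.app _) ≫ _
  exact (Category.assoc _ _ _).symm.trans ((congrArg (· ≫ _) ((Q.map_comp _ _).symm.trans
    ((congrArg Q.map e).trans (Q.map_comp _ _)))).trans ((Category.assoc _ _ _).trans
      ((congrArg (_ ≫ ·) ((Q.commShiftIso (1 : ℤ)).hom.naturality _)).trans (Category.assoc _ _ _).symm)))

lemma mapNatTrans_single {G' : A ⥤ C} [G'.Additive] (τ : G ⟶ G') (X : A) :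
    (NatTrans.mapHomologicalComplex τ (ComplexShape.up ℤ)).app ((single A _ 0).obj X) ≫
        (singleMapHomologicalComplex G' _ 0).hom.app X =
      (singleMapHomologicalComplex G _ 0).hom.app X ≫ (single C _ 0).map (τ.app X) := by
  apply HomologicalComplex.to_single_hom_ext
  simp [singleMapHomologicalComplex_hom_app_self, single_map_f_self]
  have h0 := (singleObjXSelf (ComplexShape.up ℤ) 0 (G.obj X)).inv_hom_id_assoc
    (τ.app X ≫ (singleObjXSelf (ComplexShape.up ℤ) 0 (G'.obj X)).inv)
  exact (τ.naturality_assoc _ _).symm.trans ((congrArg (_ ≫ ·) h0.symm).trans (Category.assoc _ _ _).symm)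

end Triangle

variable [IsGrothendieckAbelian.{v} C]

/-- A morphism from `E R` to a derived complete object extends to the completion. -/
theorem exists_extension [HasDerivedCategory.{z} C] (l : List R) (I : Ideal R)
    (hI : I = Ideal.span {x | x ∈ l}) {F : C} (hF : ∀ a ∈ l, IsTele a F)
    (φ : E.obj (ModuleCat.of R R) ⟶ F) :
    ∃ ψ : (adicΦ I E).obj (ModuleCat.of R R) ⟶ F, (adicη I E).app (ModuleCat.of R R) ≫ ψ = φ := by
  obtain ⟨_, _⟩ := preservesFiniteLimits_colimits_fg I E
  let G := fgι R ⋙ E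
  let G' := fgι R ⋙ adicΦ I E
  let τ : G ⟶ G' := Functor.whiskerLeft (fgι R) (adicη I E)
  let K := (DerivedCategory.singleFunctor C 0).obj F
  let P : ObjectProperty (DerivedCategory C) := fun Z => ∃ n : ℤ, Nonempty (Z ≅ K⟦n⟧)
  have hP : ∀ (Z : DerivedCategory C) (n : ℤ), P Z → P (Z⟦n⟧) := fun Z n ⟨m, ⟨e⟩⟩ =>
    ⟨m + n, ⟨(shiftFunctor _ n).mapIso e ≪≫ ((shiftFunctorAdd (DerivedCategory C) m n).app K).symm⟩⟩
  have hT : ∀ a ∈ l, ∀ (W Z : DerivedCategory C), P Z → TBij a (W ⟶ Z) := fun a ha W Z ⟨n, ⟨e⟩⟩ => by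
    refine tBij_of_linearEquiv (Linear.homCongr R (Iso.refl W) e.symm) (tBij_homD (fun p => ?_) W n)
    by_cases hp : p = 0
    · subst hp
      exact isTele_of_iso (DR39.singleH0Iso F).symm (hF a ha)
    · have hz : IsZero ((DerivedCategory.homologyFunctor C p).obj K) :=
        (isZero_single_obj_homology _ 0 F p hp).of_iso
          ((DerivedCategory.homologyFunctorFactors C p).app ((single C _ 0).obj F))
      intro W' _
      have : Subsingleton (W' ⟶ (DerivedCategory.homologyFunctor C p).obj K) := ⟨fun x y => hz.eq_of_tgt x y⟩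
      exact tBij_of_subsingleton
  have key : ∀ l' : List R, (∀ a ∈ l', a ∈ l) →
      (∀ Z, P Z → Function.Bijective fun m : _ ⟶ Z =>
        Q.map ((NatTrans.mapHomologicalComplex τ (ComplexShape.up ℤ)).app (kz l')) ≫ m) →
      ∀ Z, P Z → Function.Bijective fun m : _ ⟶ Z =>
        Q.map ((NatTrans.mapHomologicalComplex τ (ComplexShape.up ℤ)).app (kz [])) ≫ m := by
    intro l'
    induction l' with
    | nil => exact fun _ h => h
    | cons a l' ih =>
      intro ha h
      refine ih (fun b hb => ha b (List.mem_cons_of_mem a hb)) ?_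
      exact bijective_of_cone a P hP (imTri_dist_smul G a (kz l')) (imTri_dist_smul G' a (kz l'))
        (Q.map ((NatTrans.mapHomologicalComplex τ _).app (kz l')))
        (Q.map ((NatTrans.mapHomologicalComplex τ _).app (kz (a :: l'))))
        (by
          change Q.map _ ≫ Q.map _ = Q.map _ ≫ Q.map _
          exact (Q.map_comp _ _).symm.trans
            ((congrArg Q.map ((NatTrans.mapHomologicalComplex τ _).naturality _).symm).trans (Q.map_comp _ _)))
        (mapNatTrans_δ G τ _) h (hT a (ha a List.mem_cons_self) _) (hT a (ha a List.mem_cons_self) _)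
  have : IsIso (Q.map ((NatTrans.mapHomologicalComplex τ (ComplexShape.up ℤ)).app (kz l))) :=
    (DerivedCategory.isIso_Q_map_iff_quasiIso C _).2 (quasiIso_mapη E l I hI)
  have hb := key l (fun a ha => ha) (fun Z _ => ((asIso (Q.map ((NatTrans.mapHomologicalComplex τ
    (ComplexShape.up ℤ)).app (kz l)))).symm.homFromEquiv).bijective) K
    ⟨0, ⟨((shiftFunctorZero _ ℤ).app K).symm⟩⟩
  let eG : Q.obj ((G.mapHomologicalComplex _).obj (kz [])) ≅
      (DerivedCategory.singleFunctor C 0).obj (E.obj (ModuleCat.of R R)) :=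
    Q.mapIso ((singleMapHomologicalComplex G (ComplexShape.up ℤ) 0).app (FGModuleCat.of R R))
  let eG' : Q.obj ((G'.mapHomologicalComplex _).obj (kz [])) ≅
      (DerivedCategory.singleFunctor C 0).obj ((adicΦ I E).obj (ModuleCat.of R R)) :=
    Q.mapIso ((singleMapHomologicalComplex G' (ComplexShape.up ℤ) 0).app (FGModuleCat.of R R))
  have hsq : Q.map ((NatTrans.mapHomologicalComplex τ (ComplexShape.up ℤ)).app (kz [])) ≫ eG'.hom =
      eG.hom ≫ (DerivedCategory.singleFunctor C 0).map ((adicη I E).app (ModuleCat.of R R)) := by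
    change Q.map _ ≫ Q.map _ = Q.map _ ≫ Q.map _
    exact (Q.map_comp _ _).symm.trans
      ((congrArg Q.map (mapNatTrans_single G τ (FGModuleCat.of R R))).trans (Q.map_comp _ _))
  obtain ⟨m, hm⟩ := hb.2 (eG.hom ≫ (DerivedCategory.singleFunctor C 0).map φ)
  obtain ⟨ψ, hψ⟩ := (DerivedCategory.singleFunctor C 0).map_surjective (eG'.inv ≫ m)
  refine ⟨ψ, (DerivedCategory.singleFunctor C 0).map_injective ?_⟩
  rw [← cancel_epi eG.hom, Functor.map_comp, hψ, ← reassoc_of% hsq, Iso.hom_inv_id_assoc]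
  exact hm

end Groth.Agent.DerTele91
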