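import Groth.Agent.DerTele91.Basic
import Mathlib.LinearAlgebra.Quotient.Basic
import Mathlib.Algebra.BigOperators.Fin

/-!
Nakayama for modules satisfying the telescope condition.
-/

set_option autoImplicit false

universe t s

namespace Groth.Agent.DerTele91

variable {R : Type t} [CommRing R]

lemma tBij_quotient {M : Type s} [AddCommGroup M] [Module R M] {f : R} (h : TBij f M) (b : R) :
    TBij f (M ⧸ LinearMap.range (LinearMap.lsmul R M b)) := by
  refine tBij_of (fun x hx => ?_) fun y => ?_
  · choose a ha using fun n => Submodule.Quotient.mk_surjective _ (x n)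
    have : ∀ n, ∃ w, b • w = a n - f • a (n + 1) := fun n => by
      have h0 : (Submodule.Quotient.mk (a n - f • a (n + 1)) :
          M ⧸ LinearMap.range (LinearMap.lsmul R M b)) = 0 := by
        rw [Submodule.Quotient.mk_sub, Submodule.Quotient.mk_smul, ha, ha, sub_eq_zero]
        exact hx n
      exact (Submodule.Quotient.mk_eq_zero _).1 h0
    choose w hw using this
    obtain ⟨z, hz⟩ := h.exists_solution w
    have e := h.eq_zero (x := fun n => a n - b • z n) fun n => by
      refine sub_eq_zero.1 ?_
      rw [smul_sub, smul_comm f b, show a n - b • z n - (f • a (n + 1) - b • f • z (n + 1)) =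
        (a n - f • a (n + 1)) - (b • z n - b • f • z (n + 1)) by abel, ← smul_sub, hz, hw, sub_self]
    funext n
    rw [← ha n, Pi.zero_apply, Submodule.Quotient.mk_eq_zero]
    exact ⟨z n, (sub_eq_zero.1 (congrFun e n)).symm⟩
  · choose b' hb using fun n => Submodule.Quotient.mk_surjective _ (y n)
    obtain ⟨x, hx⟩ := h.exists_solution b'
    exact ⟨fun n => Submodule.Quotient.mk (x n), fun n => by
      rw [← Submodule.Quotient.mk_smul, ← Submodule.Quotient.mk_sub, hx, hb]⟩

/-- A module which is derived complete and equal to `(a)M` is zero. -/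
theorem subsingleton_of_gens : ∀ {r : ℕ} (a : Fin r → R) {M : Type s} [AddCommGroup M] [Module R M],
    (∀ k, TBij (a k) M) → (∀ m : M, ∃ c : Fin r → M, ∑ k, a k • c k = m) → Subsingleton M
  | 0, a, M, _, _, _, hs => subsingleton_of_forall_eq 0 fun m => by
      obtain ⟨c, rfl⟩ := hs m
      simp
  | r + 1, a, M, _, _, h, hs => by
      have : Subsingleton (M ⧸ LinearMap.range (LinearMap.lsmul R M (a (Fin.last r)))) :=
        subsingleton_of_gens (fun k => a k.castSucc) (fun k => tBij_quotient (h _) _) fun m => by
          obtain ⟨m, rfl⟩ := Submodule.Quotient.mk_surjective _ m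
          obtain ⟨c, rfl⟩ := hs m
          refine ⟨fun k => Submodule.Quotient.mk (c k.castSucc), ?_⟩
          have h0 : (Submodule.Quotient.mk (a (Fin.last r) • c (Fin.last r)) :
              M ⧸ LinearMap.range (LinearMap.lsmul R M (a (Fin.last r)))) = 0 :=
            (Submodule.Quotient.mk_eq_zero _).2 ⟨_, rfl⟩
          rw [Fin.sum_univ_castSucc]
          simp only [← Submodule.mkQ_apply] at h0 ⊢
          rw [map_add, map_sum, h0, add_zero]
          simp
      refine subsingleton_of_surjective (h (Fin.last r)) fun m => ?_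
      obtain ⟨c, hc⟩ := (Submodule.Quotient.mk_eq_zero _).1 (Subsingleton.elim
        (Submodule.Quotient.mk m : M ⧸ LinearMap.range (LinearMap.lsmul R M (a (Fin.last r)))) 0)
      exact ⟨c, hc⟩

end Groth.Agent.DerTele91
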