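import Groth.Agent.DerTele91.Gen
import Groth.Agent.ProEt91.Cover
import Groth.Prelude.Def_ProEtDC
import Mathlib.CategoryTheory.Linear.FunctorCategory
import Mathlib.RingTheory.Localization.Module
import Mathlib.Algebra.Module.LocalizedModule.Away

/-!
Derived complete sheaves on the pro-étale site are the sheaves satisfying the telescope condition.
-/

set_option autoImplicit false

universe u

open CategoryTheory CategoryTheory.Limits AlgebraicGeometry Opposite

namespace Groth.Agent.DerTele91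

set_option backward.isDefEq.respectTransparency false

variable {X : Scheme.{u}} (Λ : Type (u + 1)) [CommRing Λ]

/-- Extension by zero of constant sheaves. -/
noncomputable abbrev cExt (U : X.ProEt) : ModuleCat.{u + 1} Λ ⥤ EtModW.ModP Λ X :=
  constantSheaf ((Scheme.ProEt.topology X).over U) (ModuleCat.{u + 1} Λ) ⋙ ProEtDC.extZeroModP Λ U

/-- The adjunction with sections over `U`. -/
noncomputable def cAdj (U : X.ProEt) :
    cExt Λ U ⊣ (sheafSections (Scheme.ProEt.topology X) (ModuleCat.{u + 1} Λ)).obj (op U) :=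
  (constantSheafAdj _ _ Over.mkIdTerminal).comp
    ((Over.forget U).sheafAdjunctionContinuous (ModuleCat.{u + 1} Λ) ((Scheme.ProEt.topology X).over U)
      (Scheme.ProEt.topology X))

/-- Maps out of an extension by zero of a constant sheaf. -/
noncomputable def homE (U : X.ProEt) (M : ModuleCat.{u + 1} Λ) (F : EtModW.ModP Λ X) :
    ((cExt Λ U).obj M ⟶ F) ≃ₗ[Λ] (M ⟶ F.obj.obj (op U)) where
  __ := (cAdj Λ U).homEquiv M F
  map_add' a b := by
    change (cAdj Λ U).homEquiv M F (a + b) = _ + _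
    simp only [Equiv.toFun_as_coe, Adjunction.homEquiv_unit]
    exact Preadditive.comp_add _ _ _ _ _ _
  map_smul' r a := by
    change (cAdj Λ U).homEquiv M F (r • a) = r • _
    simp only [Equiv.toFun_as_coe, Adjunction.homEquiv_unit]
    exact Linear.comp_smul _ _ _ _ _ _

/-- Maps out of `j_! Λ` are sections. -/
noncomputable def elemE (U : X.ProEt) (F : EtModW.ModP Λ X) :
    ((cExt Λ U).obj (ModuleCat.of Λ Λ) ⟶ F) ≃ₗ[Λ] F.obj.obj (op U) :=
  homE Λ U _ F ≪≫ₗ ModuleCat.homLinearEquiv ≪≫ₗ LinearMap.ringLmapEquivSelf Λ Λ _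

lemma homE_naturality (U : X.ProEt) {M : ModuleCat.{u + 1} Λ} {F F' : EtModW.ModP Λ X}
    (g : (cExt Λ U).obj M ⟶ F) (h : F ⟶ F') :
    homE Λ U M F' (g ≫ h) = homE Λ U M F g ≫ h.hom.app (op U) :=
  (cAdj Λ U).homEquiv_naturality_right g h

lemma homE_map (U : X.ProEt) {M M' : ModuleCat.{u + 1} Λ} {F : EtModW.ModP Λ X}
    (h : M' ⟶ M) (g : (cExt Λ U).obj M ⟶ F) :
    homE Λ U M' F ((cExt Λ U).map h ≫ g) = h ≫ homE Λ U M F g :=
  (cAdj Λ U).homEquiv_naturality_left h g

lemma elemE_naturality (U : X.ProEt) {F F' : EtModW.ModP Λ X}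
    (g : (cExt Λ U).obj (ModuleCat.of Λ Λ) ⟶ F) (h : F ⟶ F') :
    elemE Λ U F' (g ≫ h) = (h.hom.app (op U)).hom (elemE Λ U F g) := by
  show (homE Λ U _ F' (g ≫ h)).hom 1 = _
  rw [homE_naturality]
  rfl

lemma cExt_map_smul (U : X.ProEt) {M M' : ModuleCat.{u + 1} Λ} (r : Λ) (h : M ⟶ M') :
    (cExt Λ U).map (r • h) = r • (cExt Λ U).map h := by
  apply (homE Λ U _ _).injective
  rw [map_smul, ← Category.comp_id ((cExt Λ U).map (r • h)), ← Category.comp_id ((cExt Λ U).map h),
    homE_map, homE_map, Linear.smul_comp]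

/-- Extensions by zero from weakly contractible objects are projective. -/
theorem projective_cExt {U : X.ProEt} (hU : ProEtS.IsWC U) :
    Projective ((cExt Λ U).obj (ModuleCat.of Λ Λ)) where
  factors {E B} g e he := by
    have : Sheaf.IsLocallySurjective e := (Sheaf.isLocallySurjective_iff_epi' _ e).2 he
    let e' := (sheafCompose (Scheme.ProEt.topology X) (forget (ModuleCat.{u + 1} Λ))).map e
    have : Sheaf.IsLocallySurjective e' :=
      inferInstanceAs (Sheaf.IsLocallySurjective ((sheafCompose _ _).map e))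
    obtain ⟨a, ha⟩ := hU _ _ e' ((Sheaf.isLocallySurjective_iff_epi' _ e').1 this) (elemE Λ U B g)
    refine ⟨(elemE Λ U E).symm a, (elemE Λ U B).injective ?_⟩
    rw [elemE_naturality, LinearEquiv.apply_symm_apply]
    exact ha

/-- The weakly contractible objects. -/
abbrev WCObj (X : Scheme.{u}) : Type (u + 1) := { V : X.ProEt // ProEtS.IsWC V }

/-- The generators. -/
noncomputable abbrev gen (i : WCObj X) : EtModW.ModP Λ X := (cExt Λ i.1).obj (ModuleCat.of Λ Λ)

/-- The weakly contractible objects give a generating family. -/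
theorem hgen (F : EtModW.ModP Λ X) :
    ∃ (κ : Type (u + 1)) (i : κ → WCObj X) (p : (∐ fun k => gen Λ (i k)) ⟶ F), Epi p := by
  refine ⟨Σ V : WCObj X, F.obj.obj (op V.1), Sigma.fst,
    Sigma.desc fun k => (elemE Λ k.1.1 F).symm k.2, Preadditive.epi_of_cancel_zero _ fun {Y} g hg => ?_⟩
  have h0 : ∀ (V : WCObj X) (a : F.obj.obj (op V.1)), (g.hom.app (op V.1)).hom a = 0 := fun V a => by
    have := congrArg (fun t => Sigma.ι (fun k : Σ V : WCObj X, F.obj.obj (op V.1) => gen Λ k.1) ⟨V, a⟩ ≫ t) hg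
    simp only [Sigma.ι_desc_assoc, comp_zero] at this
    have e := congrArg (elemE Λ V.1 Y) this
    rw [elemE_naturality, LinearEquiv.apply_symm_apply, map_zero] at e
    exact e
  ext U a
  obtain ⟨U⟩ := U
  choose W hW hx _ using fun x : U.left => exists_isAffineOpen_mem_and_subset (X := U.left)
    (x := x) (U := ⊤) trivial
  obtain ⟨V, c, hV, hmem⟩ := ProEt91.exists_cover_data U W hW fun x => ⟨x, hx x⟩
  refine ((isSheaf_iff_isSheaf_of_type _ _).1 ((Presheaf.isSheaf_iff_isSheaf_forget _ _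
    (forget (ModuleCat.{u + 1} Λ))).1 Y.2)).isSeparated _ (hmem _ fun i => Sieve.ofArrows_mk V c i)
    |>.ext fun Z h hh => ?_
  obtain ⟨i, d, rfl⟩ := Sieve.ofArrows.exists hh
  have : IsAffine (V i).left := (hV i).1
  have hVi : ProEtS.IsWC (V i) := ProEt91.isWC_of_refines (ProEt91.refines_of_isWContractible _ (hV i).2)
  have e := h0 ⟨V i, hVi⟩ ((F.obj.map (c i).op).hom a)
  rw [← ConcreteCategory.comp_apply, g.hom.naturality] at e
  change (Y.obj.map (d ≫ c i).op).hom ((g.hom.app (op U)).hom a) = (Y.obj.map (d ≫ c i).op).hom 0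
  rw [map_zero, op_comp, Functor.map_comp]
  change (Y.obj.map d.op).hom ((Y.obj.map (c i).op).hom ((g.hom.app (op U)).hom a)) = 0
  rw [show (Y.obj.map (c i).op).hom ((g.hom.app (op U)).hom a) = 0 from e, map_zero]

instance : EnoughProjectives (EtModW.ModP Λ X) :=
  enoughProjectives (gen Λ) (hgen Λ) fun i => projective_cExt Λ i.2

variable {Λ}

/-- The map `1 ↦ f⁻ⁿ`. -/
noncomputable def ell (f : Λ) (n : ℕ) : ModuleCat.of Λ Λ ⟶ ModuleCat.of Λ (Localization.Away f) :=
  ModuleCat.ofHom (LinearMap.toSpanSingleton Λ _ ((IsLocalization.Away.invSelf f) ^ n))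

lemma smul_invSelf_succ (f : Λ) (n : ℕ) :
    f • (IsLocalization.Away.invSelf f : Localization.Away f) ^ (n + 1) =
      (IsLocalization.Away.invSelf f) ^ n := by
  rw [Algebra.smul_def, pow_succ', ← mul_assoc, IsLocalization.Away.mul_invSelf, one_mul]

lemma ell_succ (f : Λ) (n : ℕ) : f • ell f (n + 1) = ell f n := by
  ext
  show f • ((1 : Λ) • (IsLocalization.Away.invSelf f : Localization.Away f) ^ (n + 1)) = (1 : Λ) • _
  rw [one_smul, one_smul, smul_invSelf_succ]

/-- Compatible sequences. -/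
def seqMod (f : Λ) (N : Type (u + 1)) [AddCommGroup N] [Module Λ N] : Submodule Λ (ℕ → N) where
  carrier := {s | ∀ n, s n = f • s (n + 1)}
  add_mem' {a b} ha hb n := by simp only [Pi.add_apply, smul_add, ← ha n, ← hb n]
  zero_mem' n := by simp
  smul_mem' r a ha n := by simp only [Pi.smul_apply, smul_comm f r, ← ha n]

lemma bijective_smul_seqMod (f : Λ) (N : Type (u + 1)) [AddCommGroup N] [Module Λ N] :
    Function.Bijective fun s : seqMod f N => f • s := by
  refine ⟨fun a b e => Subtype.ext (funext fun n => ?_), fun a => ⟨⟨fun n => a.1 (n + 1), fun n => a.2 (n + 1)⟩,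
    Subtype.ext (funext fun n => (a.2 n).symm)⟩⟩
  rw [a.2 n, b.2 n]
  exact congrFun (congrArg Subtype.val e) (n + 1)

/-- Maps out of `Λ_f` are compatible sequences. -/
lemma existsUnique_away (f : Λ) (N : ModuleCat.{u + 1} Λ) (s : ℕ → N) (hs : ∀ n, s n = f • s (n + 1)) :
    ∃! g : ModuleCat.of Λ (Localization.Away f) ⟶ N,
      ∀ n, g.hom ((IsLocalization.Away.invSelf f) ^ n) = s n := by
  have hu : ∀ x : Submonoid.powers f, IsUnit (algebraMap Λ (Module.End Λ (seqMod f N)) x) := by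
    rintro ⟨_, k, rfl⟩
    have : IsUnit (algebraMap Λ (Module.End Λ (seqMod f N)) f) :=
      (Module.End.isUnit_iff _).2 (bijective_smul_seqMod f N)
    simpa only [map_pow] using this.pow k
  let ψ := IsLocalizedModule.lift (Submonoid.powers f) (Algebra.linearMap Λ (Localization.Away f))
    (LinearMap.toSpanSingleton Λ _ (⟨s, hs⟩ : seqMod f N)) hu
  have hψ1 : ψ 1 = ⟨s, hs⟩ := by
    have := IsLocalizedModule.lift_apply (Submonoid.powers f) (Algebra.linearMap Λ (Localization.Away f))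
      (LinearMap.toSpanSingleton Λ _ (⟨s, hs⟩ : seqMod f N)) hu 1
    simpa using this
  have hψ : ∀ n m, (ψ ((IsLocalization.Away.invSelf f) ^ n)).1 m = s (m + n) := fun n => by
    induction n with
    | zero => intro m; rw [pow_zero, hψ1]; rfl
    | succ n ih =>
      intro m
      have e : (f • ψ ((IsLocalization.Away.invSelf f) ^ (n + 1))).1 (m + 1) = s (m + 1 + n) := by
        rw [← map_smul, smul_invSelf_succ]
        exact ih (m + 1)
      rw [(ψ _).2 m]
      exact e.trans (congrArg s (by omega))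
  refine ⟨ModuleCat.ofHom (LinearMap.proj 0 ∘ₗ (seqMod f N).subtype ∘ₗ ψ), fun n => ?_, fun g hg => ?_⟩
  · exact (hψ n 0).trans (congrArg s (Nat.zero_add n))
  · ext z
    obtain ⟨n, a, ha⟩ := IsLocalization.Away.surj f z
    have hz : z = a • (IsLocalization.Away.invSelf f : Localization.Away f) ^ n := by
      rw [Algebra.smul_def, ← ha, mul_assoc, ← mul_pow, IsLocalization.Away.mul_invSelf, one_pow, mul_one]
    change g.hom z = (ψ z).1 0
    rw [hz, map_smul, map_smul, hg, Submodule.coe_smul, Pi.smul_apply, hψ, Nat.zero_add]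

lemma smul_cExt_inv (U : X.ProEt) (f : Λ) :
    ∃ g : ProEtDC.locExt Λ U f ⟶ ProEtDC.locExt Λ U f, f • g = 𝟙 _ := by
  refine ⟨(cExt Λ U).map (ModuleCat.ofHom (LinearMap.mulLeft Λ
    (IsLocalization.Away.invSelf f : Localization.Away f))), (cExt_map_smul Λ U f _).symm.trans ?_⟩
  refine (congrArg (cExt Λ U).map ?_).trans ((cExt Λ U).map_id _)
  ext z
  show f • (IsLocalization.Away.invSelf f * z) = z
  rw [Algebra.smul_def, ← mul_assoc, IsLocalization.Away.mul_invSelf, one_mul]

lemma huniv_locExt (U : X.ProEt) (f : Λ) (Y : EtModW.ModP Λ X)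
    (x : ℕ → ((cExt Λ U).obj (ModuleCat.of Λ Λ) ⟶ Y)) (hx : ∀ n, x n = f • x (n + 1)) :
    ∃! g : ProEtDC.locExt Λ U f ⟶ Y, ∀ n, (cExt Λ U).map (ell f n) ≫ g = x n := by
  obtain ⟨φ, hφ, huniq⟩ := existsUnique_away f (Y.obj.obj (op U)) (fun n => elemE Λ U Y (x n))
    fun n => by rw [← map_smul, ← hx]
  have key : ∀ (g : (cExt Λ U).obj (ModuleCat.of Λ (Localization.Away f)) ⟶ Y) n,
      elemE Λ U Y ((cExt Λ U).map (ell f n) ≫ g) =
        (homE Λ U _ Y g).hom ((IsLocalization.Away.invSelf f) ^ n) := fun g n => by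
    show (homE Λ U _ Y ((cExt Λ U).map (ell f n) ≫ g)).hom 1 = _
    rw [homE_map]
    show (homE Λ U _ Y g).hom ((1 : Λ) • _) = _
    rw [one_smul]
  refine ⟨(homE Λ U _ Y).symm φ, fun n => (elemE Λ U Y).injective ?_, fun g hg => ?_⟩
  · rw [key, LinearEquiv.apply_symm_apply, hφ]
  · refine (LinearEquiv.eq_symm_apply (homE Λ U _ Y)).2 ?_
    exact huniq _ fun n => by rw [← key]; exact congrArg _ (hg n)

/-- Derived completeness is the telescope condition. -/
theorem isDCSheaf_iff (I : Ideal Λ) (F : EtModW.ModP Λ X) :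
    ProEtDC.IsDCSheaf Λ I F ↔ ∀ f ∈ I, IsTele f F := by
  refine ⟨fun h f hf => isTele_of_gen (gen Λ) (hgen Λ) fun i =>
    tBij_of_ext_vanish.{u + 1} (fun n => (cExt Λ i.1).map (ell f n))
      (fun n => by rw [← cExt_map_smul, ell_succ]) (huniv_locExt i.1 f) ?_ (h i.1 f hf 1),
    fun h U f hf n => ?_⟩
  · have := h i.1 f hf 0
    exact (Abelian.Ext.homEquiv₀.symm.injective.subsingleton (α := ProEtDC.locExt Λ i.1 f ⟶ F))
  · obtain ⟨g, hg⟩ := smul_cExt_inv U f
    exact subsingleton_ext (h f hf) g hg n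

end Groth.Agent.DerTele91
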