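import Groth.Agent.DerTele91.ProEt
import Groth.Agent.DerTele91.KoszulIso
import Groth.Agent.ProEt91.Coprod
import Groth.Agent.S0763
import Groth.Agent.S0766
import Groth.Agent.S0776

/-!
Derived complete sheaves with locally constant reduction over a weakly contractible affine.
-/

set_option autoImplicit false
set_option linter.unusedSectionVars false

universe u

open CategoryTheory CategoryTheory.Limits AlgebraicGeometry Opposite

namespace Groth.Agent.DerTele91

set_option backward.isDefEq.respectTransparency false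

variable {X : Scheme.{u}} (Λ : Type (u + 1)) [CommRing Λ]

/-- Constant sheaves. -/
noncomputable abbrev cE (X : Scheme.{u}) : ModuleCat.{u + 1} Λ ⥤ EtModW.ModP Λ X :=
  constantSheaf (Scheme.ProEt.topology X) (ModuleCat.{u + 1} Λ)

instance : PreservesFiniteLimits (cE Λ X) :=
  inferInstanceAs (PreservesFiniteLimits (Functor.const _ ⋙ presheafToSheaf _ _))

/-- `X` is terminal. -/
noncomputable def isTerminalTop (X : Scheme.{u}) : IsTerminal (ProEtS.topP X) :=
  MorphismProperty.Over.mkIdTerminal _ X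

/-- Maps out of constant sheaves. -/
noncomputable def topE (M : ModuleCat.{u + 1} Λ) (F : EtModW.ModP Λ X) :
    ((cE Λ X).obj M ⟶ F) ≃ₗ[Λ] (M ⟶ F.obj.obj (op (ProEtS.topP X))) where
  __ := (constantSheafAdj (Scheme.ProEt.topology X) (ModuleCat.{u + 1} Λ) (isTerminalTop X)).homEquiv M F
  map_add' a b := by
    change (constantSheafAdj (Scheme.ProEt.topology X) (ModuleCat.{u + 1} Λ) (isTerminalTop X)).homEquiv M F
      (a + b) = _ + _
    simp only [Equiv.toFun_as_coe, Adjunction.homEquiv_unit]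
    exact Preadditive.comp_add _ _ _ _ _ _
  map_smul' r a := by
    change (constantSheafAdj (Scheme.ProEt.topology X) (ModuleCat.{u + 1} Λ) (isTerminalTop X)).homEquiv M F
      (r • a) = r • _
    simp only [Equiv.toFun_as_coe, Adjunction.homEquiv_unit]
    exact Linear.comp_smul _ _ _ _ _ _

lemma topE_map {M M' : ModuleCat.{u + 1} Λ} {F : EtModW.ModP Λ X} (h : M' ⟶ M) (g : (cE Λ X).obj M ⟶ F) :
    topE Λ M' F ((cE Λ X).map h ≫ g) = h ≫ topE Λ M F g :=
  (constantSheafAdj (Scheme.ProEt.topology X) (ModuleCat.{u + 1} Λ) (isTerminalTop X)).homEquiv_naturality_left h g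

lemma topE_comp {M : ModuleCat.{u + 1} Λ} {F F' : EtModW.ModP Λ X} (g : (cE Λ X).obj M ⟶ F) (h : F ⟶ F') :
    topE Λ M F' (g ≫ h) = topE Λ M F g ≫ h.hom.app (op (ProEtS.topP X)) :=
  (constantSheafAdj (Scheme.ProEt.topology X) (ModuleCat.{u + 1} Λ) (isTerminalTop X)).homEquiv_naturality_right g h

instance : (cE Λ X).Linear Λ where
  map_smul {M N} h r := by
    apply (topE Λ _ _).injective
    rw [map_smul, ← Category.comp_id ((cE Λ X).map (r • h)), ← Category.comp_id ((cE Λ X).map h),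
      topE_map, topE_map, Linear.smul_comp]

variable {Λ}

/-- A sheaf which is locally constant of finite type on a weakly contractible affine is generated by
finitely many global sections. -/
theorem exists_generators [IsAffine X] (hX : EtPBC.IsWContractible ↥(Γ(X, ⊤))) (Q : EtModW.ModP Λ X)
    (hq : EtModW.IsFPLocConstP Λ Q) :
    ∃ (t : ℕ) (s : Fin t → Q.obj.obj (op (ProEtS.topP X))), ∀ (Z : EtModW.ModP Λ X) (h : Q ⟶ Z),
      (∀ j, (h.hom.app (op (ProEtS.topP X))).hom (s j) = 0) → h = 0 := by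
  classical
  let T := ProEtS.topP X
  have : IsAffine T.left := ‹IsAffine X›
  obtain ⟨ι, U, hU, hM⟩ := hq
  obtain ⟨κ, W, hW, hk⟩ := ProEt91.refines_of_isWContractible T hX _ hU
  have hk' : ∀ k, ∃ (i : ι), Nonempty (ProEt91.openObj T (W k) ⟶ U i) := fun k => by
    obtain ⟨i, g, -⟩ := Sieve.ofArrows.exists (hk k)
    exact ⟨i, ⟨g⟩⟩
  choose i g using hk'
  obtain ⟨t₀, ht₀⟩ := isCompact_univ.elim_finite_subcover (fun k => (W k : Set ↥T.left))
    (fun k => (W k).2) (fun x _ => Set.mem_iUnion.2 (hW.cover x))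
  choose M _ _ hfp e using hM
  have hgen : ∀ k, ∃ G : Finset (M (i k)), Submodule.span Λ (G : Set (M (i k))) = ⊤ := fun k =>
    (Module.Finite.fg_top (R := Λ) (M := M (i k)))
  choose G hG using hgen
  -- the sections over the pieces
  let σ : ∀ k, M (i k) →ₗ[Λ] Q.obj.obj (op (ProEt91.openObj T (W k))) := fun k =>
    (Q.obj.map (g k).some.op).hom ∘ₗ
      ((e (i k)).some.inv.hom.app (op (Over.mk (𝟙 (U (i k)))))).hom ∘ₗ
        ((toSheafify ((Scheme.ProEt.topology X).over (U (i k)))
          ((Functor.const _).obj (ModuleCat.of Λ (M (i k))))).app (op (Over.mk (𝟙 (U (i k)))))).hom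
  let W' : t₀ → T.left.Opens := fun k => W k.1
  have hW' : ProEt91.Decomp T W' := ⟨fun k l h => hW.disj fun e => h (Subtype.ext e), fun x => by
    obtain ⟨k, hk⟩ := Set.mem_iUnion.1 (ht₀ (Set.mem_univ x))
    obtain ⟨hk0, hk1⟩ := Set.mem_iUnion.1 hk
    exact ⟨⟨k, hk0⟩, hk1⟩⟩
  let J := Σ k : t₀, (G k.1 : Set (M (i k.1)))
  have hglue : ∀ j : J, ∃ s : Q.obj.obj (op T), (Q.obj.map (ProEt91.openHom T (W' j.1)).op).hom s = σ j.1.1 j.2.1 := by
    intro j
    let x : ∀ k : t₀, Q.obj.obj (op (ProEt91.openObj T (W' k))) :=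
      fun k => if h : j.1 = k then h ▸ σ j.1.1 j.2.1 else 0
    obtain ⟨s, hs⟩ := ProEt91.exists_glue hW' ((sheafCompose (Scheme.ProEt.topology X) (forget _)).obj Q) (by exact x)
    refine ⟨s, (hs j.1).trans ?_⟩
    simp only [x, dif_pos]
  choose s hs using hglue
  refine ⟨Fintype.card J, fun n => s ((Fintype.equivFin J).symm n), fun Z h hh => ?_⟩
  have hs0 : ∀ (k : t₀) (m : M (i k.1)), (h.hom.app (op (ProEt91.openObj T (W' k)))).hom (σ k.1 m) = 0 := by
    intro k m
    have : (⊤ : Submodule Λ (M (i k.1))) ≤ LinearMap.ker ((h.hom.app (op (ProEt91.openObj T (W' k)))).hom ∘ₗ σ k.1) := by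
      rw [← hG k.1, Submodule.span_le]
      intro m hm
      change (h.hom.app _).hom (σ k.1 m) = 0
      rw [← hs ⟨k, m, hm⟩, ← ConcreteCategory.comp_apply, h.hom.naturality]
      change (Z.obj.map _).hom ((h.hom.app (op T)).hom (s ⟨k, m, hm⟩)) = 0
      have := hh (Fintype.equivFin J ⟨k, m, hm⟩)
      simp only [Equiv.symm_apply_apply] at this
      rw [this, map_zero]
    exact this (Submodule.mem_top (x := m))
  ext V a
  obtain ⟨V⟩ := V
  have hsep : ∀ {V : X.ProEt} (S : Sieve V), S ∈ Scheme.ProEt.topology X V → ∀ x : Z.obj.obj (op V),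
      (∀ ⦃Y : X.ProEt⦄ ⦃f : Y ⟶ V⦄, S f → (Z.obj.map f.op).hom x = 0) → x = 0 := fun S hS x hx =>
    ((isSheaf_iff_isSheaf_of_type _ _).1 ((Presheaf.isSheaf_iff_isSheaf_forget _ _
      (forget (ModuleCat.{u + 1} Λ))).1 Z.2)).isSeparated _ hS |>.ext fun Y f hf =>
        (hx hf).trans (map_zero (Z.obj.map f.op).hom).symm
  let v : V ⟶ T := (isTerminalTop X).from V
  refine hsep _ ((Scheme.ProEt.topology X).pullback_stable v (ProEt91.openCover_mem W' hW'.cover)) _ ?_
  intro Y₁ f hf
  obtain ⟨Y₂, b, g₂, hg₂, -⟩ := hf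
  obtain ⟨k⟩ := hg₂
  let b' : Y₁ ⟶ U (i k.1) := b ≫ (g k.1).some
  let y : (Q.over (U (i k.1))).obj.obj (op (Over.mk b')) := (Q.obj.map f.op).hom a
  let c := ((e (i k.1)).some.hom.hom.app (op (Over.mk b'))).hom y
  let P₀ := (Functor.const (Over (U (i k.1)))ᵒᵖ).obj (ModuleCat.of Λ (M (i k.1)))
  rw [← ConcreteCategory.comp_apply, ← h.hom.naturality]
  change (h.hom.app (op Y₁)).hom ((Q.obj.map f.op).hom a) = 0
  refine hsep _ (((Scheme.ProEt.topology X).mem_over_iff _).1
    (Presheaf.imageSieve_mem ((Scheme.ProEt.topology X).over (U (i k.1)))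
      (toSheafify ((Scheme.ProEt.topology X).over (U (i k.1))) P₀) c)) _ ?_
  intro Y' f' hf'
  rw [Sieve.overEquiv_iff] at hf'
  obtain ⟨m, hm⟩ := hf'
  refine (congr($(h.hom.naturality f'.op) y)).symm.trans ?_
  change (h.hom.app (op Y')).hom ((Q.obj.map f'.op).hom y) = 0
  -- the section is a restriction of `σ m`
  let φ : Over.mk (f' ≫ b') ⟶ Over.mk b' := Over.homMk f'
  let φ' : Over.mk (f' ≫ b') ⟶ Over.mk (𝟙 (U (i k.1))) := Over.homMk (f' ≫ b')
  have hy : (Q.obj.map f'.op).hom y =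
      (Q.obj.map (f' ≫ b).op).hom (σ k.1 m) := by
    have h1 : ((Q.over (U (i k.1))).obj.map φ.op).hom y =
        ((e (i k.1)).some.inv.hom.app (op (Over.mk (f' ≫ b')))).hom
          (((toSheafify ((Scheme.ProEt.topology X).over (U (i k.1))) P₀).app (op (Over.mk (f' ≫ b')))).hom m) := by
      refine Eq.trans ?_ (congrArg _ hm).symm
      have e1 := congr($((e (i k.1)).some.inv.hom.naturality φ.op) c)
      refine Eq.trans ?_ e1.symm
      refine congrArg ((Q.over (U (i k.1))).obj.map φ.op).hom ?_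
      exact (congrArg (fun t : Q.over (U (i k.1)) ⟶ Q.over (U (i k.1)) => (t.hom.app (op (Over.mk b'))).hom y)
        (e (i k.1)).some.hom_inv_id).symm
    have h2 : ((toSheafify ((Scheme.ProEt.topology X).over (U (i k.1))) P₀).app (op (Over.mk (f' ≫ b')))).hom m =
        ((sheafify ((Scheme.ProEt.topology X).over (U (i k.1))) P₀).map φ'.op).hom
          (((toSheafify ((Scheme.ProEt.topology X).over (U (i k.1))) P₀).app (op (Over.mk (𝟙 (U (i k.1)))))).hom m) :=
      congr($((toSheafify ((Scheme.ProEt.topology X).over (U (i k.1))) P₀).naturality φ'.op) m)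
    have h3 := congr($((e (i k.1)).some.inv.hom.naturality φ'.op)
      (((toSheafify ((Scheme.ProEt.topology X).over (U (i k.1))) P₀).app (op (Over.mk (𝟙 (U (i k.1)))))).hom m))
    refine h1.trans ((congrArg _ h2).trans (h3.trans ?_))
    change (Q.obj.map (f' ≫ b').op).hom _ = (Q.obj.map (f' ≫ b).op).hom ((Q.obj.map (g k.1).some.op).hom _)
    rw [← ConcreteCategory.comp_apply, ← Functor.map_comp, ← op_comp, Category.assoc]
    rfl
  rw [hy, ← ConcreteCategory.comp_apply, h.hom.naturality]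
  change (Z.obj.map (f' ≫ b).op).hom ((h.hom.app (op (ProEt91.openObj T (W' k)))).hom (σ k.1 m)) = 0
  rw [hs0, map_zero]

end Groth.Agent.DerTele91
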